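import Mathlib

/-!
Roots of `X² - r X + 1`: multiplicative orders and the powers of a matrix annihilated by such
polynomials.
-/

set_option autoImplicit false

namespace CfsgLib.CharsMore.SpectrumPSp4

open Polynomial

universe u

/-- The halving divisor. -/
def dOdd (p : ℕ) : ℕ := if p = 2 then 1 else 2

/-- The element orders common to `PSp₄(q)` and the models. -/
def Om (p q n : ℕ) : Prop :=
  n ∣ (q ^ 2 + 1) / dOdd p ∨ n ∣ (q ^ 2 - 1) / dOdd p ∨ n ∣ p * (q + 1) ∨ n ∣ p * (q - 1) ∨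
    (p = 2 ∧ n ∣ 4) ∨ (p = 3 ∧ n ∣ 9)

theorem Om.mono {p q m n : ℕ} (h : m ∣ n) (hn : Om p q n) : Om p q m := by
  rcases hn with hn | hn | hn | hn | ⟨e, hn⟩ | ⟨e, hn⟩
  · exact .inl (h.trans hn)
  · exact .inr (.inl (h.trans hn))
  · exact .inr (.inr (.inl (h.trans hn)))
  · exact .inr (.inr (.inr (.inl (h.trans hn))))
  · exact .inr (.inr (.inr (.inr (.inl ⟨e, h.trans hn⟩))))
  · exact .inr (.inr (.inr (.inr (.inr ⟨e, h.trans hn⟩))))

variable {L : Type u} [Field L]

/-- The quadratic with roots `l` and `l⁻¹`. -/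
noncomputable def quad (r : L) : L[X] := X ^ 2 - C r * X + 1

theorem eval_quad (r x : L) : (quad r).eval x = x ^ 2 - r * x + 1 := by simp [quad]

theorem root_ne_zero {r x : L} (h : (quad r).eval x = 0) : x ≠ 0 := by
  rintro rfl
  simp [eval_quad] at h

theorem eq_add_inv {r x : L} (h : (quad r).eval x = 0) : r = x + x⁻¹ := by
  have hx := root_ne_zero h
  rw [eval_quad] at h
  field_simp
  linear_combination -h

theorem quad_eq {r x : L} (h : (quad r).eval x = 0) : quad r = (X - C x) * (X - C x⁻¹) := by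
  have e := eq_add_inv h
  have hx := root_ne_zero h
  have h1 : C x * C x⁻¹ = (1 : L[X]) := by rw [← C_mul, mul_inv_cancel₀ hx, C_1]
  rw [quad, e, C_add]
  linear_combination -h1

theorem root_cases {r x y : L} (hx : (quad r).eval x = 0) (hy : (quad r).eval y = 0) :
    y = x ∨ y = x⁻¹ := by
  rw [quad_eq hx] at hy
  simpa [sub_eq_zero] using hy

theorem exists_root [IsAlgClosed L] (r : L) : ∃ x : L, (quad r).eval x = 0 := by
  refine IsAlgClosed.exists_root _ ?_
  have : (quad r).degree = 2 := by rw [quad]; compute_degree!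
  rw [this]
  decide

theorem quad_two {r e : L} (he : e ^ 2 = 1) (hr : r = 2 * e) : quad r = (X - C e) ^ 2 := by
  have h1 : C e ^ 2 = (1 : L[X]) := by rw [← C_pow, he, C_1]
  rw [quad, hr, C_mul, map_ofNat]
  linear_combination -h1

theorem quad_dvd {r x c : L} (hx : (quad r).eval x = 0) (hne : x ≠ x⁻¹) {n : ℕ} (hn : x ^ n = c)
    (hc : c ^ 2 = 1) : quad r ∣ X ^ n - C c := by
  have hc' : c⁻¹ = c := inv_eq_of_mul_eq_one_right (by rw [← sq, hc])
  rw [quad_eq hx]
  refine (isCoprime_X_sub_C_of_isUnit_sub (sub_ne_zero.2 hne).isUnit).mul_dvd ?_ ?_ <;>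
    rw [dvd_iff_isRoot, IsRoot.def] <;> simp [inv_pow, hn, hc']

/-- The roots of the quadratics are never shared. -/
theorem isCoprime_quad [IsAlgClosed L] {r r' : L} (h : r ≠ r') : IsCoprime (quad r) (quad r') := by
  obtain ⟨x, hx⟩ := exists_root r
  have hy : ∀ y, (quad r).eval y = 0 → IsCoprime (X - C y) (quad r') := fun y hy =>
    (irreducible_X_sub_C y).coprime_iff_not_dvd.2 fun hd => h (by
      rw [eq_add_inv hy, eq_add_inv (dvd_iff_isRoot.1 hd)])
  rw [quad_eq hx]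
  refine (hy x hx).mul_left (hy _ ?_)
  rw [quad_eq hx]
  simp

variable {p q : ℕ} [hp : Fact p.Prime] [CharP L p]

theorem neg_one_eq_one_of_two (h : p = 2) : (-1 : L) = 1 := by
  subst h
  exact neg_one_eq_one_iff.2 (ringChar.eq L 2)

theorem pow_dOdd {c : L} (h : c ^ 2 = 1) : c ^ dOdd p = 1 := by
  unfold dOdd
  split_ifs with hp2
  · rcases sq_eq_one_iff.1 h with rfl | rfl
    · simp
    · rw [pow_one, neg_one_eq_one_of_two hp2]
  · exact h

omit hp [CharP L p] in
theorem pow_half {x : L} {m : ℕ} (hx : x ^ m = 1) (hd : dOdd p ∣ m) :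
    ∃ c : L, c ^ 2 = 1 ∧ x ^ (m / dOdd p) = c := by
  refine ⟨_, ?_, rfl⟩
  obtain ⟨k, rfl⟩ := hd
  unfold dOdd at hx ⊢
  split_ifs at hx ⊢
  · rw [one_mul] at hx
    simp [hx]
  · rw [← pow_mul, Nat.mul_div_cancel_left _ two_pos, mul_comm, hx]

variable {m : ℕ} (hq : q = p ^ m)
include hq

omit [CharP L p] in
theorem dOdd_dvd_add : dOdd p ∣ q + 1 := by
  unfold dOdd
  split_ifs with h
  · exact one_dvd _
  · subst hq
    exact even_iff_two_dvd.1 ((hp.out.odd_of_ne_two h).pow.add_one)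

omit [CharP L p] in
theorem dOdd_dvd_sub : dOdd p ∣ q - 1 := by
  unfold dOdd
  split_ifs with h
  · exact one_dvd _
  · subst hq
    exact even_iff_two_dvd.1 (Nat.Odd.sub_odd (hp.out.odd_of_ne_two h).pow odd_one)

theorem frob_two (e : L) (he : e ^ 2 = 1) : (2 * e) ^ q = 2 * e := by
  subst hq
  rw [mul_pow, ← iterateFrobenius_def, ← iterateFrobenius_def, map_ofNat]
  congr 1
  rw [iterateFrobenius_def]
  rcases sq_eq_one_iff.1 he with rfl | rfl
  · rw [one_pow]
  · rw [neg_one_pow_expChar_pow]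

theorem frob_root {r r' x : L} (hr : r ^ q = r') (hx : (quad r).eval x = 0) :
    (quad r').eval (x ^ q) = 0 := by
  rw [eval_quad] at hx ⊢
  have h := congrArg (iterateFrobenius L p m) hx
  rw [map_add, map_sub, map_mul, map_pow, map_one, map_zero] at h
  simpa only [iterateFrobenius_def, ← hq, hr] using h

/-- A quadratic with coefficient in `F_q`. -/
theorem fixed_cases [IsAlgClosed L] {r : L} (hr : r ^ q = r) :
    (∃ e : L, e ^ 2 = 1 ∧ r = 2 * e) ∨
      ∃ (n : ℕ) (c : L), (n = (q - 1) / dOdd p ∨ n = (q + 1) / dOdd p) ∧ c ^ 2 = 1 ∧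
        quad r ∣ X ^ n - C c := by
  obtain ⟨x, hx⟩ := exists_root r
  have hx0 := root_ne_zero hx
  by_cases hne : x = x⁻¹
  · refine .inl ⟨x, ?_, by rw [eq_add_inv hx, ← hne]; ring⟩
    rw [sq]
    nth_rw 2 [hne]
    rw [mul_inv_cancel₀ hx0]
  right
  have hq0 : 1 ≤ q := hq ▸ Nat.one_le_pow _ _ hp.out.pos
  rcases root_cases hx (frob_root hq hr hx) with h | h
  · obtain ⟨c, hc, hn⟩ := pow_half (p := p) (m := q - 1) (x := x) (mul_right_cancel₀ hx0 (by
      rw [← pow_succ, Nat.sub_add_cancel hq0, one_mul, h])) (dOdd_dvd_sub hq)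
    exact ⟨_, c, .inl rfl, hc, quad_dvd hx hne hn hc⟩
  · obtain ⟨c, hc, hn⟩ := pow_half (p := p) (m := q + 1) (x := x)
      (by rw [pow_succ, h, inv_mul_cancel₀ hx0]) (dOdd_dvd_add hq)
    exact ⟨_, c, .inr rfl, hc, quad_dvd hx hne hn hc⟩

omit hq in
/-- A square of a linear factor. -/
theorem sq_dvd_frob (e : L) (k : ℕ) (hk : 2 ≤ p ^ k) :
    (X - C e) ^ 2 ∣ X ^ p ^ k - C (e ^ p ^ k) := by
  rw [show (X : L[X]) ^ p ^ k - C (e ^ p ^ k) = (X - C e) ^ p ^ k by
    rw [sub_pow_expChar_pow, C_pow]]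
  exact pow_dvd_pow _ hk

omit hq in
theorem pow_p_dvd {f : L[X]} {n : ℕ} (h : f ∣ (X ^ n - 1) ^ p) : f ∣ X ^ (n * p) - 1 := by
  rwa [sub_pow_expChar, one_pow, ← pow_mul] at h

end CfsgLib.CharsMore.SpectrumPSp4
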