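import Mathlib

/-!
Element orders in extensions of `V ^ k` by a group of linear maps in characteristic `p`.
-/

set_option autoImplicit false
set_option linter.style.haveILetI false

namespace CfsgLib.CharsMore.SpectrumPSp4

variable {K : Type} [Field K] {V : Type} [AddCommGroup V] [Module K V]

/-- The sum of the powers. -/
def normSum (g : V ≃ₗ[K] V) (n : ℕ) (v : V) : V := ∑ i ∈ Finset.range n, (g ^ i) v

theorem normSum_fixed (g : V ≃ₗ[K] V) (n : ℕ) (h : g ^ n = 1) (v : V) :
    g (normSum g n v) = normSum g n v := by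
  have e : ∀ i, g ((g ^ i) v) = (g ^ (i + 1)) v := fun i => by rw [pow_succ']; rfl
  unfold normSum
  rw [map_sum]
  simp only [e]
  refine add_right_cancel (b := (g ^ 0) v) ?_
  rw [← Finset.sum_range_succ' (fun i => (g ^ i) v), Finset.sum_range_succ, h, pow_zero]

theorem normSum_of_fixed (g : V ≃ₗ[K] V) (n : ℕ) (v : V) (h : g v = v) : normSum g n v = n • v := by
  have e : ∀ i : ℕ, (g ^ i) v = v := by
    intro i
    induction i with
    | zero => rfl
    | succ i ih => rw [pow_succ]; show (g ^ i) (g v) = v; rw [h, ih]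
  simp [normSum, e]

variable {k : ℕ}

/-- The diagonal action. -/
def diagAct (X : Subgroup (V ≃ₗ[K] V)) : X →* MulAut (Multiplicative (Fin k → V)) where
  toFun g := AddEquiv.toMultiplicative (AddEquiv.piCongrRight fun _ => (g : V ≃ₗ[K] V).toAddEquiv)
  map_one' := rfl
  map_mul' _ _ := rfl

/-- The extension. -/
abbrev Ext (X : Subgroup (V ≃ₗ[K] V)) (k : ℕ) : Type :=
  Multiplicative (Fin k → V) ⋊[diagAct (k := k) X] X

variable {X : Subgroup (V ≃ₗ[K] V)}

theorem right_pow (e : Ext X k) (n : ℕ) : (e ^ n).right = e.right ^ n :=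
  map_pow SemidirectProduct.rightHom e n

theorem left_pow (e : Ext X k) (n : ℕ) (j : Fin k) :
    Multiplicative.toAdd (e ^ n).left j = normSum (e.right : V ≃ₗ[K] V) n
      (Multiplicative.toAdd e.left j) := by
  induction n with
  | zero => simp [normSum]
  | succ n ih =>
    rw [pow_succ, SemidirectProduct.mul_left, toAdd_mul, Pi.add_apply, ih, right_pow, normSum,
      normSum, Finset.sum_range_succ]
    rfl

variable (p : ℕ) [hp : Fact p.Prime] [CharP K p]

omit hp in
theorem orderOf_dvd_or (e : Ext X k) :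
    orderOf e ∣ orderOf (e.right : V ≃ₗ[K] V) ∨
      orderOf e ∣ p * orderOf (e.right : V ≃ₗ[K] V) ∧
        ∃ v, normSum (e.right : V ≃ₗ[K] V) (orderOf (e.right : V ≃ₗ[K] V)) v ≠ 0 := by
  set n := orderOf (e.right : V ≃ₗ[K] V)
  have hr : (e ^ n).right = 1 := by
    rw [right_pow]
    exact Subtype.ext (by rw [SubgroupClass.coe_pow, pow_orderOf_eq_one]; rfl)
  have hinl : e ^ n = SemidirectProduct.inl (e ^ n).left :=
    SemidirectProduct.ext rfl (hr.trans rfl)
  by_cases h : (e ^ n).left = 1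
  · exact .inl (orderOf_dvd_of_pow_eq_one (by rw [hinl, h, map_one]))
  · refine .inr ⟨orderOf_dvd_of_pow_eq_one ?_, ?_⟩
    · have : (e ^ n).left ^ p = 1 := by
        refine Multiplicative.toAdd.injective (funext fun j => ?_)
        rw [toAdd_pow, Pi.smul_apply, ← Nat.cast_smul_eq_nsmul K, CharP.cast_eq_zero, zero_smul]
        rfl
      rw [mul_comm, pow_mul, hinl, ← map_pow, this, map_one]
    · by_contra hv
      push Not at hv
      exact h (Multiplicative.toAdd.injective (funext fun j => by rw [left_pow, hv]; rfl))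

include hp in
theorem exists_order_mul (g : X) (v : V) (hk : 0 < k)
    (hv : normSum (g : V ≃ₗ[K] V) (orderOf (g : V ≃ₗ[K] V)) v ≠ 0) (hn : 0 < orderOf (g : V ≃ₗ[K] V)) :
    ∃ e : Ext X k, orderOf e = p * orderOf (g : V ≃ₗ[K] V) := by
  set n := orderOf (g : V ≃ₗ[K] V) with hn'
  let e : Ext X k := ⟨Multiplicative.ofAdd fun _ => v, g⟩
  refine ⟨e, ?_⟩
  have hne : e ^ n ≠ 1 := fun h => hv (by
    have := left_pow e n ⟨0, hk⟩
    rw [h] at this
    exact this.symm)
  have hd : orderOf e ∣ p * n := by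
    rcases orderOf_dvd_or p e with h | h
    · exact absurd (orderOf_dvd_iff_pow_eq_one.1 h) hne
    · exact h.1
  have hnd : n ∣ orderOf e := by
    rw [hn', Subgroup.orderOf_coe]
    refine orderOf_dvd_of_pow_eq_one ?_
    rw [← right_pow e, pow_orderOf_eq_one]
    rfl
  obtain ⟨c, hc⟩ := hnd
  rw [hc, mul_comm p] at hd
  rcases (Nat.dvd_prime hp.out).1 ((Nat.mul_dvd_mul_iff_left hn).1 hd) with h | h
  · exact absurd (orderOf_dvd_iff_pow_eq_one.1 (by rw [hc, h, mul_one])) hne
  · rw [hc, h, mul_comm]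

include hp in
/-- Arbitrarily large groups with a prescribed downward closed set of element orders. -/
theorem exists_ext [Finite V] [Nontrivial V] [Finite X] (P : ℕ → Prop) (hP : ∀ {a b}, a ∣ b → P b → P a)
    (hbase : ∀ g : X, P (orderOf (g : V ≃ₗ[K] V)))
    (hlift : ∀ (g : X) (v : V), normSum (g : V ≃ₗ[K] V) (orderOf (g : V ≃ₗ[K] V)) v ≠ 0 →
      P (p * orderOf (g : V ≃ₗ[K] V)))
    (hmax : ∀ n, P n → (∃ g : X, n ∣ orderOf (g : V ≃ₗ[K] V)) ∨
      ∃ (g : X) (v : V), normSum (g : V ≃ₗ[K] V) (orderOf (g : V ≃ₗ[K] V)) v ≠ 0 ∧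
        n ∣ p * orderOf (g : V ≃ₗ[K] V)) (N : ℕ) :
    ∃ (H : Type) (_ : Group H) (_ : Fintype H), N < Fintype.card H ∧
      Set.range (orderOf : H → ℕ) = {n | P n} := by
  classical
  haveI : Finite (Ext X (N + 1)) := Finite.of_equiv _ SemidirectProduct.equivProd.symm
  haveI := Fintype.ofFinite (Ext X (N + 1))
  refine ⟨Ext X (N + 1), inferInstance, inferInstance, ?_, ?_⟩
  · rw [← Nat.card_eq_fintype_card, Nat.card_congr SemidirectProduct.equivProd, Nat.card_prod]
    have h1 : 2 ^ (N + 1) ≤ Nat.card (Multiplicative (Fin (N + 1) → V)) := by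
      rw [Nat.card_congr Multiplicative.toAdd, Nat.card_fun, Nat.card_fin]
      exact Nat.pow_le_pow_left Finite.one_lt_card _
    have h2 : 0 < Nat.card X := Nat.card_pos
    calc N < 2 ^ (N + 1) := Nat.lt_trans (Nat.lt_succ_self N) Nat.lt_two_pow_self
      _ ≤ Nat.card (Multiplicative (Fin (N + 1) → V)) := h1
      _ ≤ _ := Nat.le_mul_of_pos_right _ h2
  ext n
  constructor
  · rintro ⟨e, rfl⟩
    rcases orderOf_dvd_or p e with h | ⟨h, v, hv⟩
    · exact hP h (hbase e.right)
    · exact hP h (hlift _ v hv)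
  · intro hn
    have key : ∀ e : Ext X (N + 1), n ∣ orderOf e → n ∈ Set.range (orderOf : Ext X (N + 1) → ℕ) :=
      fun e he => ⟨e ^ (orderOf e / n), orderOf_pow_orderOf_div (orderOf_pos e).ne' he⟩
    rcases hmax n hn with ⟨g, hg⟩ | ⟨g, v, hv, hd⟩
    · refine key (SemidirectProduct.inr g) ?_
      rwa [orderOf_injective _ SemidirectProduct.inr_injective, ← Subgroup.orderOf_coe]
    · obtain ⟨e, he⟩ := exists_order_mul p (k := N + 1) g v (Nat.succ_pos N) hv
        (by rw [Subgroup.orderOf_coe]; exact orderOf_pos g)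
      exact key e (he ▸ hd)

end CfsgLib.CharsMore.SpectrumPSp4
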