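import Cfsg.Agent.Lib.Recog.ProjSpectrum
import Cfsg.Agent.Lib.CharsMore.SpectrumPSp4.Quad
import Cfsg.Agent.Lib.CharsMore.SpectrumPSp4.Semidirect

/-!
`SL₂(q²)` acting on the twisted tensor square of its natural module.
-/

set_option autoImplicit false
set_option linter.style.haveILetI false
set_option linter.unusedSectionVars false

namespace CfsgLib.CharsMore.SpectrumPSp4

open Matrix Polynomial

variable {K : Type} [Field K] {p m : ℕ} [hp : Fact p.Prime] [CharP K p]

local notation "SL" => Matrix.SpecialLinearGroup (Fin 2) K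
local notation "M2" => Matrix (Fin 2) (Fin 2) K

/-- The Frobenius image of an element of `SL₂`. -/
def sig (p m : ℕ) [Fact p.Prime] [CharP K p] : SL →* SL :=
  Matrix.SpecialLinearGroup.map (iterateFrobenius K p m)

theorem sig_coe (g : SL) : (sig p m g : M2) = (g : M2).map (iterateFrobenius K p m) := rfl

theorem trace_sig (g : SL) : Matrix.trace (sig p m g : M2) = Matrix.trace (g : M2) ^ p ^ m := by
  rw [sig_coe, Matrix.trace_fin_two, Matrix.trace_fin_two, ← iterateFrobenius_def, map_add]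
  rfl

/-- The twisted action on two by two matrices. -/
def rho (p m : ℕ) [Fact p.Prime] [CharP K p] : SL →* (M2 ≃ₗ[K] M2) where
  toFun g :=
    { toFun := fun X => (g : M2) * X * (sig p m g : M2)ᵀ
      invFun := fun X => ((g⁻¹ : SL) : M2) * X * (sig p m g⁻¹ : M2)ᵀ
      map_add' := fun X Y => by simp [mul_add, add_mul]
      map_smul' := fun c X => by simp
      left_inv := fun X => by
        show ((g⁻¹ : SL) : M2) * ((g : M2) * X * (sig p m g : M2)ᵀ) * (sig p m g⁻¹ : M2)ᵀ = X
        have h1 : ((g⁻¹ : SL) : M2) * (g : M2) = 1 := by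
          rw [← Matrix.SpecialLinearGroup.coe_mul, inv_mul_cancel]; rfl
        have h2 : (sig p m g : M2)ᵀ * (sig p m g⁻¹ : M2)ᵀ = 1 := by
          rw [← transpose_mul, ← Matrix.SpecialLinearGroup.coe_mul, ← map_mul, inv_mul_cancel, map_one]
          simp
        rw [mul_assoc, mul_assoc, mul_assoc, h2, mul_one, ← mul_assoc, h1, one_mul]
      right_inv := fun X => by
        show (g : M2) * (((g⁻¹ : SL) : M2) * X * (sig p m g⁻¹ : M2)ᵀ) * (sig p m g : M2)ᵀ = X
        have h1 : (g : M2) * ((g⁻¹ : SL) : M2) = 1 := by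
          rw [← Matrix.SpecialLinearGroup.coe_mul, mul_inv_cancel]; rfl
        have h2 : (sig p m g⁻¹ : M2)ᵀ * (sig p m g : M2)ᵀ = 1 := by
          rw [← transpose_mul, ← Matrix.SpecialLinearGroup.coe_mul, ← map_mul, mul_inv_cancel, map_one]
          simp
        rw [mul_assoc, mul_assoc, mul_assoc, h2, mul_one, ← mul_assoc, h1, one_mul] }
  map_one' := LinearEquiv.ext fun X => by
    show ((1 : SL) : M2) * X * ((sig p m (1 : SL) : SL) : M2)ᵀ = X
    simp
  map_mul' g h := LinearEquiv.ext fun X => by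
    show ((g * h : SL) : M2) * X * (sig p m (g * h) : M2)ᵀ =
      (g : M2) * ((h : M2) * X * (sig p m h : M2)ᵀ) * (sig p m g : M2)ᵀ
    rw [map_mul, Matrix.SpecialLinearGroup.coe_mul, Matrix.SpecialLinearGroup.coe_mul, transpose_mul]
    simp only [mul_assoc]

theorem rho_apply (g : SL) (X : M2) : rho p m g X = (g : M2) * X * (sig p m g : M2)ᵀ := rfl

omit hp [CharP K p] in
theorem scalar_of_commute (g : M2) (h : ∀ X : M2, g * X = X * g) : ∃ r : K, g = r • 1 := by
  refine ⟨g 0 0, ?_⟩
  have h1 := congrFun (congrFun (h (Matrix.single 0 1 1)) 0) 1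
  have h2 := congrFun (congrFun (h (Matrix.single 0 1 1)) 0) 0
  have h3 := congrFun (congrFun (h (Matrix.single 1 0 1)) 0) 0
  simp [Matrix.mul_apply, Fin.sum_univ_two] at h1 h2 h3
  ext i j
  fin_cases i <;> fin_cases j <;> simp [h1, h3, ← h2]

theorem sig_pm {g : SL} (hg : (g : M2) = 1 ∨ (g : M2) = -1) : (sig p m g : M2) = g := by
  rw [sig_coe]
  rcases hg with h | h <;> rw [h] <;> ext i j <;> by_cases hij : i = j <;> simp [hij, Matrix.one_apply]

theorem rho_eq_one_iff (g : SL) : rho p m g = 1 ↔ (g : M2) = 1 ∨ (g : M2) = -1 := by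
  constructor
  · intro h
    have hX : ∀ X : M2, (g : M2) * X * (sig p m g : M2)ᵀ = X := fun X =>
      LinearEquiv.congr_fun h X
    have h1 : (sig p m g : M2)ᵀ * (g : M2) = 1 := mul_eq_one_comm.1 (by simpa using hX 1)
    obtain ⟨r, hr⟩ := scalar_of_commute (g : M2) fun X => by
      conv_rhs => rw [← hX X, mul_assoc, mul_assoc, h1, mul_one]
    have hd : (g : M2).det = 1 := g.2
    rw [hr, det_smul, det_one, mul_one, Fintype.card_fin] at hd
    rcases sq_eq_one_iff.1 hd with rfl | rfl
    · exact .inl (by rw [hr, one_smul])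
    · exact .inr (by rw [hr, neg_smul, one_smul])
  · intro h
    refine LinearEquiv.ext fun X => ?_
    show (g : M2) * X * (sig p m g : M2)ᵀ = X
    rw [sig_pm h]
    rcases h with h | h <;> simp [h]

theorem orderOf_rho_dvd {g : SL} {x : ℕ} (h : (g : M2) ^ x = 1 ∨ (g : M2) ^ x = -1) :
    orderOf (rho p m g) ∣ x := by
  refine orderOf_dvd_of_pow_eq_one ?_
  rwa [← map_pow, rho_eq_one_iff, Matrix.SpecialLinearGroup.coe_pow]

omit hp [CharP K p] in
theorem pow_one_add {M : M2} (hM : M * M = 0) (n : ℕ) : (1 + M) ^ n = 1 + n • M := by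
  induction n with
  | zero => simp
  | succ n ih =>
    rw [pow_succ, ih, mul_add, mul_one, add_mul, one_mul, smul_mul_assoc, hM, smul_zero, add_zero,
      succ_nsmul]
    abel

theorem pow_prime_unipotent {g : SL} {e : K} {M : M2} (he : e ^ 2 = 1) (hM : M * M = 0)
    (hg : (g : M2) = e • (1 + M)) : (g : M2) ^ p = 1 ∨ (g : M2) ^ p = -1 := by
  have h0 : p • M = 0 := by
    rw [← Nat.cast_smul_eq_nsmul K, CharP.cast_eq_zero, zero_smul]
  rw [hg, _root_.smul_pow, pow_one_add hM, h0, add_zero]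
  rcases sq_eq_one_iff.1 (show (e ^ p) ^ 2 = 1 by rw [← pow_mul, mul_comm, pow_mul, he, one_pow]) with h | h <;>
    rw [h]
  · exact .inl (one_smul _ _)
  · exact .inr (by rw [neg_smul, one_smul])

variable [Fintype K]

theorem dTwo_eq (hK : Fintype.card K = (p ^ m) ^ 2) (hm : 0 < m) :
    CfsgLib.Recog.dTwo K = dOdd p := by
  unfold CfsgLib.Recog.dTwo dOdd
  rw [hK]
  by_cases h : p = 2
  · rw [if_pos h, if_pos]
    subst h
    exact (Nat.even_pow.2 ⟨even_two, hm.ne'⟩).pow_of_ne_zero two_ne_zero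
  · rw [if_neg h, if_neg]
    exact Nat.not_even_iff_odd.2 ((hp.out.odd_of_ne_two h).pow).pow

theorem orderOf_PSL_cases (hK : Fintype.card K = (p ^ m) ^ 2) (hm : 0 < m) (g : SL) :
    ∃ x : ℕ, ((g : M2) ^ x = 1 ∨ (g : M2) ^ x = -1) ∧
      (x = p ∨ x = ((p ^ m) ^ 2 - 1) / dOdd p ∨ x = ((p ^ m) ^ 2 + 1) / dOdd p) := by
  have key : ∀ x : ℕ, orderOf (g : Matrix.ProjectiveSpecialLinearGroup (Fin 2) K) ∣ x →
      (g : M2) ^ x = 1 ∨ (g : M2) ^ x = -1 := by
    intro x hx
    have h := orderOf_dvd_iff_pow_eq_one.1 hx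
    rw [← QuotientGroup.mk_pow, QuotientGroup.eq_one_iff] at h
    obtain ⟨r, hr, he⟩ := Matrix.SpecialLinearGroup.mem_center_iff.1 h
    rw [← Matrix.SpecialLinearGroup.coe_pow, ← he]
    rcases sq_eq_one_iff.1 (show r ^ 2 = 1 by simpa using hr) with rfl | rfl
    · exact .inl (by simp)
    · refine .inr ?_
      ext i j
      by_cases hij : i = j <;> simp [hij]
  have h : orderOf (g : Matrix.ProjectiveSpecialLinearGroup (Fin 2) K) ∈
      Set.range (orderOf : Matrix.ProjectiveSpecialLinearGroup (Fin 2) K → ℕ) := ⟨_, rfl⟩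
  rw [CfsgLib.Recog.range_orderOf_PSL_two p, Set.mem_ofPred_eq, dTwo_eq hK hm, hK] at h
  rcases h with h | h | h
  · exact ⟨p, key _ h.dvd, .inl rfl⟩
  · exact ⟨_, key _ h, .inr (.inl rfl)⟩
  · exact ⟨_, key _ h, .inr (.inr rfl)⟩

/-- Elements of the orders of `PSL₂(q²)`. -/
theorem exists_rho_order (hK : Fintype.card K = (p ^ m) ^ 2) (hm : 0 < m) {n : ℕ}
    (hn : n ∣ ((p ^ m) ^ 2 - 1) / dOdd p ∨ n ∣ ((p ^ m) ^ 2 + 1) / dOdd p) :
    ∃ g : SL, orderOf (rho p m g) = n := by
  have h : n ∈ Set.range (orderOf : Matrix.ProjectiveSpecialLinearGroup (Fin 2) K → ℕ) := by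
    rw [CfsgLib.Recog.range_orderOf_PSL_two p, Set.mem_ofPred_eq, dTwo_eq hK hm, hK]
    exact .inr hn
  obtain ⟨x, hx⟩ := h
  obtain ⟨g, rfl⟩ := QuotientGroup.mk_surjective x
  refine ⟨g, (orderOf_eq_orderOf_iff.2 fun k => ?_).trans hx⟩
  rw [← map_pow, rho_eq_one_iff, ← QuotientGroup.mk_pow, QuotientGroup.eq_one_iff]
  constructor
  · rintro (h | h) <;> refine Matrix.SpecialLinearGroup.mem_center_iff.2 ?_
    · exact ⟨1, by simp, by rw [h]; simp⟩
    · refine ⟨-1, by simp, ?_⟩
      rw [h]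
      ext i j
      by_cases hij : i = j <;> simp [hij]
  · intro h
    obtain ⟨r, hr, he⟩ := Matrix.SpecialLinearGroup.mem_center_iff.1 h
    rw [← he]
    rcases sq_eq_one_iff.1 (show r ^ 2 = 1 by simpa using hr) with rfl | rfl
    · exact .inl (by simp)
    · refine .inr ?_
      ext i j
      by_cases hij : i = j <;> simp [hij]

/-- Trace in the small field. -/
theorem of_trace_fixed (g : SL) (ht : Matrix.trace (g : M2) ^ p ^ m = Matrix.trace (g : M2)) :
    (∃ x : ℕ, (x = (p ^ m - 1) / dOdd p ∨ x = (p ^ m + 1) / dOdd p) ∧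
      ((g : M2) ^ x = 1 ∨ (g : M2) ^ x = -1)) ∨
    ∃ (e : K) (M : M2), e ^ 2 = 1 ∧ M * M = 0 ∧ (g : M2) = e • (1 + M) := by
  set A : M2 := (g : M2) with hA
  set t := Matrix.trace A with htdef
  have hcay : A * A = t • A - 1 := by
    have hd : A.det = 1 := g.2
    rw [Matrix.det_fin_two] at hd
    ext i j
    fin_cases i <;> fin_cases j <;>
      simp [Matrix.mul_apply, Fin.sum_univ_two, htdef, Matrix.trace_fin_two] <;>
      first | linear_combination hd | linear_combination -hd | ring
  let L := AlgebraicClosure K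
  let ι : K →+* L := algebraMap K L
  haveI : CharP L p := charP_of_injective_algebraMap ι.injective p
  have ht' : ι t ^ p ^ m = ι t := by rw [← map_pow, ht]
  have hcast : ∀ c : L, c ^ 2 = 1 → ∃ c' : K, ι c' = c ∧ c' ^ 2 = 1 := by
    intro c hc
    rcases sq_eq_one_iff.1 hc with rfl | rfl
    · exact ⟨1, map_one _, one_pow 2⟩
    · exact ⟨-1, by rw [map_neg, map_one], neg_one_sq⟩
  rcases fixed_cases (q := p ^ m) (p := p) rfl ht' with ⟨e, he, hr⟩ | ⟨x, c, hx, hc, hd⟩
  · right
    obtain ⟨e', rfl, he'⟩ := hcast e he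
    have ht2 : t = 2 * e' := ι.injective (by rw [map_mul, map_ofNat]; exact hr)
    refine ⟨e', e' • A - 1, he', ?_, ?_⟩
    · rw [sub_mul, mul_sub, Matrix.smul_mul, Matrix.mul_smul, hcay, ht2]
      simp only [mul_one, one_mul, smul_sub, smul_smul]
      match_scalars
      · linear_combination 2 * e' * he'
      · linear_combination -he'
    · rw [add_sub_cancel, smul_smul, ← sq, he', one_smul]
  · left
    refine ⟨x, hx, ?_⟩
    obtain ⟨c', rfl, hc'⟩ := hcast c hc
    obtain ⟨f, hf⟩ := hd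
    have hz : aeval (A.map ι) (quad (ι t)) = 0 := by
      simp only [quad, map_add, map_sub, map_mul, map_pow, aeval_X, aeval_C, map_one]
      rw [sq, Algebra.algebraMap_eq_smul_one, Matrix.smul_mul, one_mul,
        ← Matrix.map_mul, hcay]
      ext i j
      by_cases hij : i = j <;> simp [hij]
    have h := congrArg (aeval (A.map ι)) hf
    rw [map_mul, hz, zero_mul, map_sub, map_pow, aeval_X, aeval_C, Algebra.algebraMap_eq_smul_one,
      sub_eq_zero] at h
    have h' : A ^ x = c' • 1 := by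
      refine Matrix.map_injective ι.injective ?_
      show ι.mapMatrix (A ^ x) = ι.mapMatrix (c' • 1)
      rw [map_pow]
      refine h.trans ?_
      ext i j
      by_cases hij : i = j <;> simp [hij]
    rcases sq_eq_one_iff.1 hc' with rfl | rfl
    · exact .inl (by rw [h', one_smul])
    · exact .inr (by rw [h', neg_smul, one_smul])

/-- A fixed matrix forces the trace into the small field. -/
theorem trace_fixed_of_fixed (g : SL) {X : M2} (hX : X ≠ 0) (h : rho p m g X = X) :
    Matrix.trace (g : M2) ^ p ^ m = Matrix.trace (g : M2) := by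
  rw [← trace_sig (m := m)]
  rw [rho_apply] at h
  have hcay : ∀ A : M2, A.det = 1 → A * A = A.trace • A - 1 := by
    intro A hd
    rw [Matrix.det_fin_two] at hd
    ext i j
    fin_cases i <;> fin_cases j <;>
      simp [Matrix.mul_apply, Fin.sum_univ_two, Matrix.trace_fin_two] <;>
      first | linear_combination hd | linear_combination -hd | ring
  set A : M2 := (g : M2) with hA
  set B : M2 := (sig p m g : M2)ᵀ with hB
  set s := B.trace with hs
  have hA2 := hcay A g.2
  have hB2 := hcay B (by rw [hB, det_transpose]; exact (sig p m g).2)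
  rw [← hs] at hB2
  have e0 : B * (s • (1 : M2) - B) = 1 := by rw [mul_sub, hB2]; simp
  have e1 : A * X = X * (s • (1 : M2) - B) := by
    conv_rhs => rw [← h, mul_assoc (A * X) B, e0, mul_one]
  have e2 : A * (A * X) = s • (A * X) - X := by
    conv_lhs => rw [e1]
    rw [mul_sub, Matrix.mul_smul, mul_one, mul_sub, Matrix.mul_smul, ← mul_assoc A X B, h]
  rw [← mul_assoc, hA2, sub_mul, one_mul, Matrix.smul_mul, sub_left_inj] at e2
  have hAX : A * X ≠ 0 := fun h0 => hX (by rw [← h, h0, zero_mul])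
  have h3 : (A.trace - s) • (A * X) = 0 := by rw [sub_smul, e2, sub_self]
  rw [← trace_transpose (sig p m g : M2), ← hB, ← hs, eq_comm, ← sub_eq_zero]
  exact (smul_eq_zero.1 h3).resolve_right hAX

omit hp [CharP K p] in
theorem two_sided_cube {M N : M2} (hM : M * M = 0) (hN : N * N = 0) (X : M2) :
    let D := fun X : M2 => M * X + X * N + M * X * N
    D (D (D X)) = 0 := by
  intro D
  have hM' : ∀ Y : M2, M * (M * Y) = 0 := fun Y => by rw [← mul_assoc, hM, zero_mul]
  simp only [D, mul_add, add_mul, mul_assoc, hM', hN, mul_zero, add_zero, zero_add]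

omit hp [CharP K p] [Fintype K] in
theorem pow_apply_eq {V : Type} [AddCommGroup V] [Module K V] (f : V ≃ₗ[K] V) (i : ℕ) (v : V) :
    (f ^ i) v = ((f.toLinearMap : Module.End K V) ^ i) v := by
  induction i generalizing v with
  | zero => rfl
  | succ i ih =>
    rw [pow_succ, pow_succ]
    exact ih (f v)

/-- A cube zero displacement has no norm. -/
theorem normSum_eq_zero_of_cube {V : Type} [AddCommGroup V] [Module K V] (h5 : 5 ≤ p) (f : V ≃ₗ[K] V)
    (h : ∀ v, ((f.toLinearMap - 1 : Module.End K V) ^ 3) v = 0) (v : V) : normSum f p v = 0 := by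
  have hpoly : (∑ i ∈ Finset.range p, (X : K[X]) ^ i) = (X - 1) ^ (p - 1) := by
    refine mul_right_cancel₀ (X_sub_C_ne_zero (1 : K)) ?_
    rw [C_1, geom_sum_mul, ← pow_succ, Nat.sub_add_cancel hp.out.one_le, sub_pow_expChar, one_pow]
  have := congrArg (fun P : K[X] => (aeval (f.toLinearMap : Module.End K V) P) v) hpoly
  simp only [map_sum, map_pow, map_sub, map_one, aeval_X, LinearMap.sum_apply] at this
  rw [normSum, Finset.sum_congr rfl fun i _ => pow_apply_eq f i v, this]
  rw [show p - 1 = p - 4 + 3 by omega, pow_add]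
  show ((f.toLinearMap - 1 : Module.End K V) ^ (p - 4)) (((f.toLinearMap - 1 : Module.End K V) ^ 3) v) = 0
  rw [h, map_zero]

theorem normSum_unipotent (h5 : 5 ≤ p) {g : SL} {e : K} {M : M2} (he : e ^ 2 = 1) (hM : M * M = 0)
    (hg : (g : M2) = e • (1 + M)) (v : M2) : normSum (rho p m g) p v = 0 := by
  set N : M2 := (M.map (iterateFrobenius K p m))ᵀ with hNdef
  have hN : N * N = 0 := by
    rw [hNdef, ← transpose_mul, ← Matrix.map_mul, hM, Matrix.map_zero _ (map_zero _), transpose_zero]
  have hρ : ∀ X, rho p m g X = X + (M * X + X * N + M * X * N) := by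
    intro X
    have hσ : (sig p m g : M2)ᵀ = e • (1 + N) := by
      rw [sig_coe, hg, hNdef]
      have hfe : iterateFrobenius K p m e = e := by
        rcases sq_eq_one_iff.1 he with rfl | rfl <;> simp
      ext i j
      by_cases hij : i = j <;> simp [hij, hfe, Ne.symm, mul_add]
    rw [rho_apply, hσ, hg, Matrix.smul_mul, Matrix.mul_smul, Matrix.smul_mul, smul_smul, ← sq, he,
      one_smul]
    simp only [add_mul, mul_add, one_mul, mul_one, mul_assoc]
    abel
  refine normSum_eq_zero_of_cube h5 _ (fun X => ?_) v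
  have hD : ∀ Y : M2, ((rho p m g).toLinearMap - 1 : Module.End K M2) Y = M * Y + Y * N + M * Y * N :=
    fun Y => by
      show rho p m g Y - Y = _
      rw [hρ, add_sub_cancel_left]
  rw [pow_succ, pow_two]
  show ((rho p m g).toLinearMap - 1 : Module.End K M2)
    (((rho p m g).toLinearMap - 1 : Module.End K M2) (((rho p m g).toLinearMap - 1 : Module.End K M2) X)) = 0
  rw [hD, hD, hD]
  exact two_sided_cube hM hN X

/-- A diagonal element. -/
def dia (a : Kˣ) : SL :=
  ⟨!![(a : K), 0; 0, ((a⁻¹ : Kˣ) : K)], by simp [Matrix.det_fin_two]⟩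

theorem dia_coe (a : Kˣ) : (dia a : M2) = Matrix.diagonal ![(a : K), ((a⁻¹ : Kˣ) : K)] := by
  ext i j
  fin_cases i <;> fin_cases j <;> simp [dia]

theorem dia_pow (a : Kˣ) (n : ℕ) : (dia a) ^ n = dia (a ^ n) := by
  refine Subtype.ext ?_
  rw [Matrix.SpecialLinearGroup.coe_pow, dia_coe, dia_coe, Matrix.diagonal_pow]
  congr 1
  funext i
  fin_cases i <;> simp

theorem dia_pm_iff (a : Kˣ) : ((dia a : M2) = 1 ∨ (dia a : M2) = -1) ↔ a ^ 2 = 1 := by
  constructor
  · intro h
    refine Units.ext ?_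
    rcases h with h | h <;>
    · have := congrFun (congrFun h 0) 0
      simp [dia] at this
      simp [this]
  · intro h
    have hinv : a⁻¹ = a := inv_eq_of_mul_eq_one_right (by rw [← sq, h])
    rcases sq_eq_one_iff.1 (show (a : K) ^ 2 = 1 by rw [← Units.val_pow_eq_pow_val, h, Units.val_one])
      with e | e
    · exact .inl (by ext i j; fin_cases i <;> fin_cases j <;> simp [dia_coe, hinv, e])
    · exact .inr (by ext i j; fin_cases i <;> fin_cases j <;> simp [dia_coe, hinv, e])

end CfsgLib.CharsMore.SpectrumPSp4
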