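import Cfsg.Agent.Lib.CharsMore.SpectrumPSp4.Action

/-!
Models in characteristic two and in characteristic at least five.
-/

set_option autoImplicit false
set_option linter.style.haveILetI false
set_option linter.unusedSectionVars false

namespace CfsgLib.CharsMore.SpectrumPSp4

open Matrix

variable {K : Type} [Field K] [Fintype K] {p m : ℕ} [hp : Fact p.Prime] [CharP K p]

local notation "SL" => Matrix.SpecialLinearGroup (Fin 2) K
local notation "M2" => Matrix (Fin 2) (Fin 2) K

theorem finite_linearEquiv {V : Type} [AddCommGroup V] [Module K V] [Finite V] :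
    Finite (V ≃ₗ[K] V) :=
  Finite.of_injective (fun f => (f : V → V)) DFunLike.coe_injective

theorem inner_base (hK : Fintype.card K = (p ^ m) ^ 2) (hm : 0 < m) (g : SL) :
    Om p (p ^ m) (orderOf (rho p m g)) := by
  obtain ⟨x, hx, hcases⟩ := orderOf_PSL_cases hK hm g
  have hn := orderOf_rho_dvd (m := m) hx
  rcases hcases with rfl | rfl | rfl
  · exact .inr (.inr (.inl (hn.trans (dvd_mul_right _ _))))
  · exact .inr (.inl hn)
  · exact .inl hn

theorem inner_lift (hp' : p = 2 ∨ 5 ≤ p) (g : SL) (v : M2)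
    (hv : normSum (rho p m g) (orderOf (rho p m g)) v ≠ 0) :
    Om p (p ^ m) (p * orderOf (rho p m g)) := by
  have hfix := normSum_fixed _ _ (pow_orderOf_eq_one (rho p m g)) v
  rcases of_trace_fixed g (trace_fixed_of_fixed g hv hfix) with ⟨x, hx, hgx⟩ | ⟨e, M, he, hM, hg⟩
  · have hn := orderOf_rho_dvd (m := m) hgx
    rcases hx with rfl | rfl
    · exact .inr (.inr (.inr (.inl (mul_dvd_mul_left p
        (hn.trans (Nat.div_dvd_of_dvd (dOdd_dvd_sub (p := p) rfl)))))))
    · exact .inr (.inr (.inl (mul_dvd_mul_left p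
        (hn.trans (Nat.div_dvd_of_dvd (dOdd_dvd_add (p := p) rfl))))))
  · have hn := orderOf_rho_dvd (m := m) (pow_prime_unipotent he hM hg)
    rcases (Nat.dvd_prime hp.out).1 hn with h1 | h1
    · rw [h1, mul_one]
      exact .inr (.inr (.inl (dvd_mul_right _ _)))
    · rcases hp' with rfl | h5
      · rw [h1]
        exact .inr (.inr (.inr (.inr (.inl ⟨rfl, dvd_rfl⟩))))
      · rw [h1] at hv
        exact absurd (normSum_unipotent h5 he hM hg v) hv

theorem cast_ne_zero_of {n : ℕ} (hn : n = p ^ m - 1 ∨ n = p ^ m + 1) (hm : 0 < m) : (n : K) ≠ 0 := by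
  rw [Ne, CharP.cast_eq_zero_iff K p]
  intro h
  have hpq : p ∣ p ^ m := dvd_pow_self p hm.ne'
  have h1 : 1 ≤ p ^ m := Nat.one_le_pow _ _ hp.out.pos
  have := hp.out.one_lt
  rcases hn with rfl | rfl
  · have := Nat.le_of_dvd one_pos (by simpa [Nat.sub_sub_self h1] using Nat.dvd_sub hpq h)
    omega
  · have := Nat.le_of_dvd one_pos (by simpa using Nat.dvd_sub h hpq)
    omega

theorem normSum_ne_zero {f : M2 ≃ₗ[K] M2} {n : ℕ} {v : M2} (hv : v ≠ 0) (hfix : f v = v)
    (hn : (n : K) ≠ 0) : normSum f n v ≠ 0 := by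
  rw [normSum_of_fixed f n v hfix, ← Nat.cast_smul_eq_nsmul K]
  exact smul_ne_zero hn hv

theorem exists_unit_order (hK : Fintype.card K = (p ^ m) ^ 2) {n : ℕ}
    (hn : n = p ^ m - 1 ∨ n = p ^ m + 1) : ∃ z : Kˣ, orderOf z = n := by
  obtain ⟨η, hη⟩ := IsCyclic.exists_ofOrder_eq_natCard (α := Kˣ)
  rw [Nat.card_units, Nat.card_eq_fintype_card, hK] at hη
  refine ⟨η ^ (orderOf η / n), orderOf_pow_orderOf_div (orderOf_pos η).ne' ?_⟩
  have hfac : (p ^ m) ^ 2 - 1 = (p ^ m + 1) * (p ^ m - 1) := by simpa using Nat.sq_sub_sq (p ^ m) 1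
  rw [hη, hfac]
  rcases hn with rfl | rfl
  · exact dvd_mul_left _ _
  · exact dvd_mul_right _ _

/-- The model in characteristic two. -/
theorem exists_model_two (hp2 : p = 2) (hK : Fintype.card K = (p ^ m) ^ 2) (hm : 0 < m) (N : ℕ) :
    ∃ (H : Type) (_ : Group H) (_ : Fintype H), N < Fintype.card H ∧
      Set.range (orderOf : H → ℕ) = {n | Om p (p ^ m) n} := by
  subst hp2
  haveI := finite_linearEquiv (K := K) (V := M2)
  refine exists_ext 2 (X := (rho (K := K) 2 m).range) (Om 2 (2 ^ m)) (fun h => Om.mono h)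
    ?_ ?_ ?_ N
  · rintro ⟨_, g, rfl⟩
    exact inner_base hK hm g
  · rintro ⟨_, g, rfl⟩ v hv
    exact inner_lift (.inl rfl) g v hv
  intro n hn
  have mixed : ∀ a : ℕ, (a = 2 ^ m - 1 ∨ a = 2 ^ m + 1) →
      ∃ (g : (rho (K := K) 2 m).range) (v : M2),
        normSum (g : M2 ≃ₗ[K] M2) (orderOf (g : M2 ≃ₗ[K] M2)) v ≠ 0 ∧
          orderOf (g : M2 ≃ₗ[K] M2) = a := by
    intro a ha
    obtain ⟨z, hz⟩ := exists_unit_order hK ha
    have hpar : ¬ 2 ∣ a := fun hd =>
      cast_ne_zero_of (K := K) (p := 2) ha hm ((CharP.cast_eq_zero_iff K 2 a).2 hd)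
    have hord : orderOf (rho 2 m (dia z)) = a := by
      refine (orderOf_eq_orderOf_iff.2 fun k => ?_).trans hz
      rw [← map_pow, rho_eq_one_iff, dia_pow, dia_pm_iff]
      refine ⟨fun h => ?_, fun h => by rw [h, one_pow]⟩
      rw [← orderOf_dvd_iff_pow_eq_one]
      have h2 := orderOf_dvd_of_pow_eq_one (x := z) (show z ^ (k * 2) = 1 by rw [pow_mul]; exact h)
      exact (Nat.Coprime.dvd_of_dvd_mul_right
        ((hz ▸ Nat.prime_two.coprime_iff_not_dvd.2 hpar).symm) h2)
    have hz0 : (z : K) ≠ 0 := z.ne_zero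
    obtain ⟨v, hv, hfix⟩ : ∃ v : M2, v ≠ 0 ∧ rho 2 m (dia z) v = v := by
      have hza : (z : K) ^ a = 1 := by rw [← hz, ← Units.val_pow_eq_pow_val, pow_orderOf_eq_one, Units.val_one]
      rcases ha with rfl | rfl
      · refine ⟨!![0, 1; 0, 0], fun h => by simpa using congrFun (congrFun h 0) 1, ?_⟩
        have hzq : (z : K) ^ 2 ^ m = z := by
          rw [← Nat.sub_add_cancel (Nat.one_le_two_pow (n := m)), pow_succ, hza, one_mul]
        rw [rho_apply, sig_coe]
        ext i j
        fin_cases i <;> fin_cases j <;>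
          simp [dia, Matrix.mul_apply, Fin.sum_univ_two, iterateFrobenius_def, hzq, hz0]
      · refine ⟨!![1, 0; 0, 0], fun h => by simpa using congrFun (congrFun h 0) 0, ?_⟩
        have hzq : (z : K) * (z : K) ^ 2 ^ m = 1 := by rw [← pow_succ', hza]
        rw [rho_apply, sig_coe]
        ext i j
        fin_cases i <;> fin_cases j <;>
          simp [dia, Matrix.mul_apply, Fin.sum_univ_two, iterateFrobenius_def, hzq]
    exact ⟨⟨_, dia z, rfl⟩, v, by
      show normSum (rho 2 m (dia z)) (orderOf (rho 2 m (dia z))) v ≠ 0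
      rw [hord]; exact normSum_ne_zero hv hfix (cast_ne_zero_of (p := 2) ha hm), hord⟩
  rcases hn with h | h | h | h | ⟨-, h⟩ | ⟨h3, -⟩
  · obtain ⟨g, hg⟩ := exists_rho_order hK hm (.inr (dvd_refl (((2 ^ m) ^ 2 + 1) / dOdd 2)))
    exact .inl ⟨⟨_, g, rfl⟩, by show n ∣ orderOf (rho 2 m g); rw [hg]; exact h⟩
  · obtain ⟨g, hg⟩ := exists_rho_order hK hm (.inl (dvd_refl (((2 ^ m) ^ 2 - 1) / dOdd 2)))
    exact .inl ⟨⟨_, g, rfl⟩, by show n ∣ orderOf (rho 2 m g); rw [hg]; exact h⟩
  · obtain ⟨g, v, hv, ho⟩ := mixed _ (.inr rfl)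
    exact .inr ⟨g, v, hv, ho.symm ▸ h⟩
  · obtain ⟨g, v, hv, ho⟩ := mixed _ (.inl rfl)
    exact .inr ⟨g, v, hv, ho.symm ▸ h⟩
  · obtain ⟨u, hu⟩ : ∃ u : SL, (u : M2) = !![1, 1; 0, 1] :=
      ⟨⟨!![1, 1; 0, 1], by simp [Matrix.det_fin_two]⟩, rfl⟩
    have hone : (1 : K) + 1 = 0 := CharTwo.add_self_eq_zero 1
    have ho : orderOf (rho 2 m u) = 2 := by
      refine orderOf_eq_prime ?_ ?_
      · rw [← map_pow, rho_eq_one_iff]
        left
        rw [Matrix.SpecialLinearGroup.coe_pow, sq]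
        ext i j
        fin_cases i <;> fin_cases j <;> simp [hu, Matrix.mul_apply, Fin.sum_univ_two, hone]
      · rw [ne_eq, rho_eq_one_iff]
        rintro (e | e) <;>
        · have := congrFun (congrFun e 0) 1
          simp [hu] at this
    refine .inr ⟨⟨_, u, rfl⟩, !![0, 0; 0, 1], ?_, ?_⟩
    · show normSum (rho 2 m u) (orderOf (rho 2 m u)) _ ≠ 0
      rw [ho]
      intro e
      have := congrFun (congrFun e 0) 1
      simp [normSum, Finset.sum_range_succ, rho_apply, sig_coe, hu, Matrix.vecMul, dotProduct,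
        Fin.sum_univ_two] at this
    · show n ∣ 2 * orderOf (rho 2 m u)
      rw [ho]; exact h
  · exact absurd h3 (by norm_num)

variable (p m) in
/-- The group generated by the inner elements and the transposition. -/
def withTranspose (hK : Fintype.card K = (p ^ m) ^ 2) : Subgroup (M2 ≃ₗ[K] M2) :=
  let T : M2 ≃ₗ[K] M2 := Matrix.transposeLinearEquiv (Fin 2) (Fin 2) K K
  have hTT : T * T = 1 := LinearEquiv.ext fun X => Matrix.transpose_transpose X
  have hswap : ∀ g : SL, T * rho p m g = rho p m (sig p m g) * T := fun g => LinearEquiv.ext fun X => by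
    show ((g : M2) * X * (sig p m g : M2)ᵀ)ᵀ =
      (sig p m g : M2) * Xᵀ * (sig p m (sig p m g) : M2)ᵀ
    have hss : (sig p m (sig p m g) : M2) = (g : M2) := by
      ext i j
      show iterateFrobenius K p m (iterateFrobenius K p m ((g : M2) i j)) = _
      rw [iterateFrobenius_def, iterateFrobenius_def, ← pow_mul, ← sq, ← hK, FiniteField.pow_card]
    rw [hss, transpose_mul, transpose_mul, transpose_transpose, mul_assoc]
  { carrier := {x | ∃ g : SL, x = rho p m g ∨ x = rho p m g * T}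
    one_mem' := ⟨1, .inl (map_one _).symm⟩
    mul_mem' := by
      rintro x y ⟨g, rfl | rfl⟩ ⟨h, rfl | rfl⟩
      · exact ⟨g * h, .inl (map_mul _ _ _).symm⟩
      · exact ⟨g * h, .inr (by rw [map_mul, mul_assoc])⟩
      · exact ⟨g * sig p m h, .inr (by rw [mul_assoc, hswap, map_mul, mul_assoc])⟩
      · exact ⟨g * sig p m h, .inl (by
          rw [mul_assoc, ← mul_assoc T, hswap, mul_assoc, hTT, mul_one, map_mul])⟩
    inv_mem' := by
      rintro x ⟨g, rfl | rfl⟩
      · exact ⟨g⁻¹, .inl (map_inv _ _).symm⟩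
      · exact ⟨sig p m g⁻¹, .inr (by
          rw [_root_.mul_inv_rev, inv_eq_of_mul_eq_one_right hTT, ← map_inv, hswap])⟩ }

/-- An outer element squares to an inner one. -/
theorem outer_sq (hK : Fintype.card K = (p ^ m) ^ 2) (g : SL) :
    (rho p m g * Matrix.transposeLinearEquiv (Fin 2) (Fin 2) K K) ^ 2 = rho p m (g * sig p m g) := by
  refine LinearEquiv.ext fun X => ?_
  rw [sq]
  show (g : M2) * ((g : M2) * Xᵀ * (sig p m g : M2)ᵀ)ᵀ * (sig p m g : M2)ᵀ =
    ((g * sig p m g : SL) : M2) * X * (sig p m (g * sig p m g) : M2)ᵀ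
  have hss : (sig p m (sig p m g) : M2) = (g : M2) := by
    ext i j
    show iterateFrobenius K p m (iterateFrobenius K p m ((g : M2) i j)) = _
    rw [iterateFrobenius_def, iterateFrobenius_def, ← pow_mul, ← sq, ← hK, FiniteField.pow_card]
  rw [map_mul, Matrix.SpecialLinearGroup.coe_mul, Matrix.SpecialLinearGroup.coe_mul, hss]
  simp only [transpose_mul, transpose_transpose, mul_assoc]

theorem transpose_ne_rho (g : SL) :
    (Matrix.transposeLinearEquiv (Fin 2) (Fin 2) K K : M2 ≃ₗ[K] M2) ≠ rho p m g := by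
  intro h
  have hX : ∀ X : M2, Xᵀ = (g : M2) * X * (sig p m g : M2)ᵀ := fun X => LinearEquiv.congr_fun h X
  have h1 : (g : M2) * (sig p m g : M2)ᵀ = 1 := by
    have := hX 1
    rwa [transpose_one, mul_one, eq_comm] at this
  have hmul : ∀ X Y : M2, (X * Y)ᵀ = Xᵀ * Yᵀ := fun X Y => by
    rw [hX, hX X, hX Y]
    have h2 : (sig p m g : M2)ᵀ * (g : M2) = 1 := mul_eq_one_comm.1 h1
    calc (g : M2) * (X * Y) * (sig p m g : M2)ᵀ
        = (g : M2) * X * ((sig p m g : M2)ᵀ * (g : M2)) * Y * (sig p m g : M2)ᵀ := by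
          rw [h2, mul_one, mul_assoc (g : M2) X Y]
      _ = _ := by simp only [mul_assoc]
  have := congrFun (congrFun (hmul (Matrix.single 0 1 1) (Matrix.single 1 0 1)) 0) 0
  simp [Matrix.mul_apply, Fin.sum_univ_two] at this

/-- The model in characteristic at least five. -/
theorem exists_model_odd (h5 : 5 ≤ p) (hK : Fintype.card K = (p ^ m) ^ 2) (hm : 0 < m) (N : ℕ) :
    ∃ (H : Type) (_ : Group H) (_ : Fintype H), N < Fintype.card H ∧
      Set.range (orderOf : H → ℕ) = {n | Om p (p ^ m) n} := by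
  haveI := finite_linearEquiv (K := K) (V := M2)
  set T : M2 ≃ₗ[K] M2 := Matrix.transposeLinearEquiv (Fin 2) (Fin 2) K K with hT
  have h2 : p ≠ 2 := by omega
  have hd : dOdd p = 2 := if_neg h2
  have hC : ∀ g : SL, (∃ x : ℕ, (x = (p ^ m - 1) / 2 ∨ x = (p ^ m + 1) / 2) ∧
      (rho p m g * T) ^ (2 * x) = 1) ∨
      ((rho p m g * T) ^ (2 * p) = 1 ∧ ∀ v, normSum (rho p m g * T) (2 * p) v = 0) := by
    intro g
    have hsq := outer_sq (p := p) hK g
    have htr : Matrix.trace ((g * sig p m g : SL) : M2) ^ p ^ m =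
        Matrix.trace ((g * sig p m g : SL) : M2) := by
      rw [← trace_sig, map_mul, Matrix.SpecialLinearGroup.coe_mul, Matrix.SpecialLinearGroup.coe_mul,
        Matrix.trace_mul_comm]
      congr 2
      ext i j
      show iterateFrobenius K p m (iterateFrobenius K p m ((g : M2) i j)) = _
      rw [iterateFrobenius_def, iterateFrobenius_def, ← pow_mul, ← sq, ← hK, FiniteField.pow_card]
    rcases of_trace_fixed (g * sig p m g) htr with ⟨x, hx, hgx⟩ | ⟨e, M, he, hM, hg⟩
    · rw [hd] at hx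
      refine .inl ⟨x, hx, ?_⟩
      rw [pow_mul, hsq, ← map_pow, rho_eq_one_iff, Matrix.SpecialLinearGroup.coe_pow]
      exact hgx
    · refine .inr ⟨?_, fun v => ?_⟩
      · rw [pow_mul, hsq, ← map_pow, rho_eq_one_iff, Matrix.SpecialLinearGroup.coe_pow]
        exact pow_prime_unipotent he hM hg
      · have hsum : ∀ j : ℕ, normSum (rho p m g * T) (2 * j) v =
            normSum (rho p m (g * sig p m g)) j (v + (rho p m g * T) v) := by
          intro j
          induction j with
          | zero => simp [normSum]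
          | succ j ih =>
            rw [normSum, Nat.mul_succ, Finset.sum_range_succ, Finset.sum_range_succ]
            conv_rhs => rw [normSum, Finset.sum_range_succ, map_add]
            rw [← normSum, ← normSum, ih, pow_succ _ (2 * j), pow_mul, hsq, add_assoc]
            rfl
        rw [hsum, normSum_unipotent h5 he hM hg]
  have hd1 := dOdd_dvd_sub (p := p) (q := p ^ m) (m := m) rfl
  have hd2 := dOdd_dvd_add (p := p) (q := p ^ m) (m := m) rfl
  rw [hd] at hd1 hd2
  refine exists_ext p (X := withTranspose p m hK) (Om p (p ^ m)) (fun h => Om.mono h) ?_ ?_ ?_ N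
  · rintro ⟨x, g, rfl | rfl⟩
    · exact inner_base hK hm g
    · show Om p (p ^ m) (orderOf (rho p m g * T))
      rcases hC g with ⟨x, hx | hx, hh⟩ | ⟨hh, -⟩ <;>
        have hn := orderOf_dvd_of_pow_eq_one hh
      · rw [hx, Nat.mul_div_cancel' hd1] at hn
        exact .inr (.inr (.inr (.inl (hn.trans (dvd_mul_left _ _)))))
      · rw [hx, Nat.mul_div_cancel' hd2] at hn
        exact .inr (.inr (.inl (hn.trans (dvd_mul_left _ _))))
      · refine .inr (.inr (.inl (hn.trans ?_)))
        rw [mul_comm]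
        exact mul_dvd_mul_left _ hd2
  · rintro ⟨x, g, rfl | rfl⟩ v hv
    · exact inner_lift (.inr h5) g v hv
    · change normSum (rho p m g * T) (orderOf (rho p m g * T)) v ≠ 0 at hv
      show Om p (p ^ m) (p * orderOf (rho p m g * T))
      rcases hC g with ⟨x, hx | hx, hh⟩ | ⟨hh, hz⟩ <;>
        have hn := orderOf_dvd_of_pow_eq_one hh
      · rw [hx, Nat.mul_div_cancel' hd1] at hn
        exact .inr (.inr (.inr (.inl (mul_dvd_mul_left p hn))))
      · rw [hx, Nat.mul_div_cancel' hd2] at hn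
        exact .inr (.inr (.inl (mul_dvd_mul_left p hn)))
      · set f := rho p m g * T with hf
        set n := orderOf f with hn'
        obtain ⟨c, hc⟩ := hn
        by_cases hc2 : p ∣ n
        · exfalso
          obtain ⟨d, hd'⟩ := hc2
          have hdc : d * c = 2 := Nat.eq_of_mul_eq_mul_left hp.out.pos (by rw [← mul_assoc, ← hd', ← hc, mul_comm])
          have hmul : ∀ j : ℕ, normSum f (n * j) v = j • normSum f n v := by
            intro j
            induction j with
            | zero => simp [normSum]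
            | succ j ih =>
              rw [normSum, Nat.mul_succ, Finset.sum_range_add, ← normSum, ih, succ_nsmul]
              congr 1
              refine Finset.sum_congr rfl fun i _ => ?_
              rw [pow_add, pow_mul, pow_orderOf_eq_one, one_pow, one_mul]
          have h0 := hz v
          rw [hc, hmul, ← Nat.cast_smul_eq_nsmul K, smul_eq_zero] at h0
          refine hv (h0.resolve_left fun h => ?_)
          have := Nat.le_of_dvd two_pos (((CharP.cast_eq_zero_iff K p c).1 h).trans ⟨d, by rw [← hdc, mul_comm]⟩)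
          omega
        · refine .inr (.inr (.inl (mul_dvd_mul_left p (?_ : n ∣ p ^ m + 1))))
          refine Dvd.dvd.trans ?_ hd2
          exact (Nat.Coprime.dvd_of_dvd_mul_right ((hp.out.coprime_iff_not_dvd.2 hc2).symm) ⟨c, hc⟩)
  intro n hn
  obtain ⟨x, hx⟩ := IsCyclic.exists_ofOrder_eq_natCard (α := Kˣ)
  rw [Nat.card_units, Nat.card_eq_fintype_card, hK] at hx
  set q := p ^ m with hq
  have hq5 : 5 ≤ q := h5.trans (Nat.le_self_pow hm.ne' p)
  have hfac : q ^ 2 - 1 = (q + 1) * (q - 1) := by simpa using Nat.sq_sub_sq q 1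
  rw [hfac] at hx
  have hx0 : (x : K) ≠ 0 := x.ne_zero
  have hq0 : q ≠ 0 := by omega
  have mixed : ∀ (g : SL) (a : ℕ) (c : Kˣ) (v : M2), ((g * sig p m g : SL) = dia c) →
      (∀ i : ℕ, (c ^ i) ^ 2 = 1 ↔ a ∣ 2 * i) → 2 ∣ a → (a : K) ≠ 0 → v ≠ 0 →
      (rho p m g * T) v = v → n ∣ p * a →
      ∃ (f : withTranspose p m hK) (v : M2),
        normSum (f : M2 ≃ₗ[K] M2) (orderOf (f : M2 ≃ₗ[K] M2)) v ≠ 0 ∧
          n ∣ p * orderOf (f : M2 ≃ₗ[K] M2) := by
    intro g a c v hgc hci ha haK hv hfix hna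
    have hiff : ∀ k : ℕ, (rho p m g * T) ^ k = 1 ↔ a ∣ k := by
      intro k
      rcases Nat.even_or_odd k with ⟨i, rfl⟩ | ⟨i, rfl⟩
      · rw [← two_mul, pow_mul, outer_sq hK, hgc, ← map_pow, dia_pow, rho_eq_one_iff, dia_pm_iff, hci]
      · refine ⟨fun h => ?_, fun h => ?_⟩
        · exfalso
          rw [pow_succ, pow_mul, outer_sq hK, ← map_pow, ← mul_assoc, ← map_mul] at h
          refine transpose_ne_rho (p := p) (m := m) ((g * sig p m g) ^ i * g)⁻¹ ?_
          rw [map_inv]
          exact eq_inv_of_mul_eq_one_right h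
        · exfalso
          have h2 := ha.trans h
          rw [← Nat.dvd_add_right (dvd_mul_right 2 i)] at *
          omega
    have ho : orderOf (rho p m g * T) = a := Nat.dvd_antisymm
      (orderOf_dvd_of_pow_eq_one ((hiff a).2 dvd_rfl)) ((hiff _).1 (pow_orderOf_eq_one _))
    refine ⟨⟨rho p m g * T, g, .inr rfl⟩, v, ?_, ?_⟩
    · show normSum (rho p m g * T) (orderOf (rho p m g * T)) v ≠ 0
      rw [ho]
      exact normSum_ne_zero hv hfix haK
    · show n ∣ p * orderOf (rho p m g * T)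
      rw [ho]; exact hna
  have hsig : ∀ (g : SL) (a b c d : K), (g : M2) = !![a, b; c, d] →
      (sig p m g : M2) = !![a ^ q, b ^ q; c ^ q, d ^ q] := by
    intro g a b c d hg
    rw [sig_coe, hg]
    ext i j
    fin_cases i <;> fin_cases j <;> simp [iterateFrobenius_def, hq]
  rcases hn with h | h | h | h | ⟨h', -⟩ | ⟨h', -⟩
  · obtain ⟨g, hg⟩ := exists_rho_order hK hm (.inr (dvd_refl ((q ^ 2 + 1) / dOdd p)))
    exact .inl ⟨⟨_, g, .inl rfl⟩, by show n ∣ orderOf (rho p m g); rw [hg]; exact h⟩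
  · obtain ⟨g, hg⟩ := exists_rho_order hK hm (.inl (dvd_refl ((q ^ 2 - 1) / dOdd p)))
    exact .inl ⟨⟨_, g, .inl rfl⟩, by show n ∣ orderOf (rho p m g); rw [hg]; exact h⟩
  · let g : SL := ⟨!![0, ((x⁻¹ : Kˣ) : K); -(x : K), 0], by simp [Matrix.det_fin_two]⟩
    have hg : (g : M2) = !![0, ((x⁻¹ : Kˣ) : K); -(x : K), 0] := rfl
    refine .inr (mixed g (q + 1)
      (-(x ^ (q - 1))) !![1, 0; 0, (x : K) ^ (q + 1)] ?_ (fun i => ?_) hd2
      (cast_ne_zero_of (.inr rfl) hm) (fun e => by simpa using congrFun (congrFun e 0) 0) ?_ h)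
    · refine Subtype.ext ?_
      rw [Matrix.SpecialLinearGroup.coe_mul, hsig g _ _ _ _ hg, hg]
      have hodd : Odd q := (hp.out.odd_of_ne_two h2).pow
      have e1 : (x : K) ^ q = (x : K) ^ (q - 1) * x := by
        rw [← pow_succ, Nat.sub_add_cancel (by omega : 1 ≤ q)]
      ext i j
      fin_cases i <;> fin_cases j <;>
        simp [dia, Matrix.mul_apply, Fin.sum_univ_two, hodd.neg_pow, e1, hq0] <;> try field_simp
    · rw [← pow_mul, mul_comm i, pow_mul, neg_sq, ← pow_mul, ← pow_mul,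
        ← orderOf_dvd_iff_pow_eq_one, hx, mul_comm (q + 1)]
      exact Nat.mul_dvd_mul_iff_left (by omega)
    · show (g : M2) * (!![1, 0; 0, (x : K) ^ (q + 1)] : M2)ᵀ * (sig p m g : M2)ᵀ = _
      rw [hsig g _ _ _ _ hg, hg]
      have hodd : Odd q := (hp.out.odd_of_ne_two h2).pow
      ext i j
      fin_cases i <;> fin_cases j <;>
        simp [Matrix.mul_apply, Matrix.vecMul, dotProduct, Fin.sum_univ_two, hodd.neg_pow, pow_succ, hq0] <;> field_simp
  · refine .inr (mixed (dia x) (q - 1) (x ^ (q + 1))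
      !![0, (x : K) * ((x : K) ^ q)⁻¹; 1, 0] ?_ (fun i => ?_) hd1
      (cast_ne_zero_of (.inl rfl) hm) (fun e => by simpa using congrFun (congrFun e 1) 0) ?_ h)
    · refine Subtype.ext ?_
      rw [Matrix.SpecialLinearGroup.coe_mul, hsig (dia x) _ _ _ _ rfl]
      ext i j
      fin_cases i <;> fin_cases j <;>
        simp [dia, Matrix.mul_apply, Fin.sum_univ_two, pow_succ, mul_comm, hq0]
    · rw [← pow_mul, ← pow_mul, ← orderOf_dvd_iff_pow_eq_one, hx, mul_comm 2 i]
      exact Nat.mul_dvd_mul_iff_left (by omega)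
    · show (dia x : M2) * (!![0, (x : K) * ((x : K) ^ q)⁻¹; 1, 0] : M2)ᵀ * (sig p m (dia x) : M2)ᵀ = _
      rw [hsig (dia x) _ _ _ _ rfl]
      ext i j
      fin_cases i <;> fin_cases j <;>
        simp [dia, Matrix.mul_apply, Matrix.vecMul, dotProduct, Fin.sum_univ_two, hq0] <;> field_simp
  · omega
  · omega

end CfsgLib.CharsMore.SpectrumPSp4
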