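import Cfsg.Agent.Lib.CharsMore.SpectrumPSp4.Models

/-!
The model in characteristic three, on a sixteen dimensional twisted tensor power.
-/

set_option autoImplicit false
set_option linter.style.haveILetI false
set_option linter.unusedSectionVars false

namespace CfsgLib.CharsMore.SpectrumPSp4.Three

open Matrix
open scoped Kronecker

variable {K : Type} [Field K] [Fact (Nat.Prime 3)] [CharP K 3] {m : ℕ}

local notation "SL" => Matrix.SpecialLinearGroup (Fin 2) K
local notation "M2" => Matrix (Fin 2) (Fin 2) K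
local notation "M4" => Matrix (Fin 2 × Fin 2) (Fin 2 × Fin 2) K

/-- The left factor. -/
def left : SL →* M4 where
  toFun g := (g : M2) ⊗ₖ (sig 3 1 g : M2)
  map_one' := by simp
  map_mul' g h := by
    rw [map_mul, Matrix.SpecialLinearGroup.coe_mul, Matrix.SpecialLinearGroup.coe_mul,
      Matrix.mul_kronecker_mul]

/-- The right factor. -/
def right (m : ℕ) : SL →* M4 where
  toFun g := (sig 3 m g : M2) ⊗ₖ (sig 3 m g : M2)
  map_one' := by simp
  map_mul' g h := by
    rw [map_mul, Matrix.SpecialLinearGroup.coe_mul, Matrix.mul_kronecker_mul]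

/-- The action by endomorphisms. -/
def actEnd (m : ℕ) : SL →* Module.End K M4 where
  toFun g :=
    { toFun := fun X => left g * X * (right m g)ᵀ
      map_add' := fun X Y => by simp [mul_add, add_mul]
      map_smul' := fun c X => by simp }
  map_one' := LinearMap.ext fun X => by simp
  map_mul' g h := LinearMap.ext fun X => by simp [mul_assoc]

/-- The action. -/
def rho3 (m : ℕ) : SL →* (M4 ≃ₗ[K] M4) :=
  (LinearMap.GeneralLinearGroup.generalLinearEquiv K M4).toMonoidHom.comp (actEnd m).toHomUnits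

theorem rho3_apply (g : SL) (X : M4) : rho3 m g X = left g * X * (right m g)ᵀ := rfl

theorem rho3_eq_one_iff (g : SL) : rho3 m g = 1 ↔ (g : M2) = 1 ∨ (g : M2) = -1 := by
  constructor
  · intro h
    have hX : ∀ X : M4, left g * X * (right m g)ᵀ = X := fun X => LinearEquiv.congr_fun h X
    have h1 : (right m g)ᵀ * left g = 1 := mul_eq_one_comm.1 (by simpa using hX 1)
    have hc : ∀ X : M4, left g * X = X * left g := fun X => by
      conv_rhs => rw [← hX X, mul_assoc, mul_assoc, h1, mul_one]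
    obtain ⟨r, hr⟩ := Matrix.mem_range_scalar_of_commute_single (M := left g) fun i j _ => (hc _).symm
    have e : ∀ i k j l, (g : M2) i j * (g : M2) k l ^ 3 =
        (Matrix.scalar (Fin 2 × Fin 2) r) (i, k) (j, l) := by
      intro i k j l
      rw [hr]
      show _ = (g : M2) i j * iterateFrobenius K 3 1 ((g : M2) k l)
      rw [iterateFrobenius_def, pow_one]
    have e01 := e 0 0 1 1
    have e10 := e 1 1 0 0
    have ea := e 0 0 0 0
    have eb := e 0 1 0 1
    simp at e01 e10 ea eb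
    have h01 : (g : M2) 0 1 = 0 := by tauto
    have h10 : (g : M2) 1 0 = 0 := by tauto
    have hd : (g : M2) 0 0 * (g : M2) 1 1 = 1 := by
      have := g.2
      rw [Matrix.det_fin_two, h01, zero_mul, sub_zero] at this
      exact this
    have h3 : (g : M2) 0 0 = (g : M2) 1 1 := frobenius_inj K 3 (by
      simp only [frobenius_def]
      exact mul_left_cancel₀ (left_ne_zero_of_mul_eq_one hd) (ea.trans eb.symm))
    rw [← h3, ← sq] at hd
    rcases sq_eq_one_iff.1 hd with h | h
    · exact .inl (by ext i j; fin_cases i <;> fin_cases j <;> simp [h01, h10, h, ← h3])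
    · exact .inr (by ext i j; fin_cases i <;> fin_cases j <;> simp [h01, h10, h, ← h3])
  · intro h
    refine LinearEquiv.ext fun X => ?_
    have hl : left g = 1 := by
      show (g : M2) ⊗ₖ (sig 3 1 g : M2) = 1
      rw [sig_pm h]
      ext ⟨i, k⟩ ⟨j, l⟩
      rcases h with h | h <;> rw [h] <;> by_cases hij : i = j <;> by_cases hkl : k = l <;>
        simp [hij, hkl, Matrix.one_apply]
    have hr : right m g = 1 := by
      show (sig 3 m g : M2) ⊗ₖ (sig 3 m g : M2) = 1
      rw [sig_pm h]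
      ext ⟨i, k⟩ ⟨j, l⟩
      rcases h with h | h <;> rw [h] <;> by_cases hij : i = j <;> by_cases hkl : k = l <;>
        simp [hij, hkl, Matrix.one_apply]
    show left g * X * (right m g)ᵀ = X
    rw [hl, hr, transpose_one, one_mul, mul_one]

theorem orderOf_rho3 (g : SL) [Fintype K] : orderOf (rho3 m g) = orderOf (rho 3 m g) :=
  orderOf_eq_orderOf_iff.2 fun k => by
    rw [← map_pow, ← map_pow, rho3_eq_one_iff, rho_eq_one_iff]

theorem orderOf_rho3_dvd {g : SL} {x : ℕ} (h : (g : M2) ^ x = 1 ∨ (g : M2) ^ x = -1) :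
    orderOf (rho3 m g) ∣ x := by
  refine orderOf_dvd_of_pow_eq_one ?_
  rwa [← map_pow, rho3_eq_one_iff, Matrix.SpecialLinearGroup.coe_pow]

section Diag

variable {L : Type} [Field L]

theorem exists_diag (A : Matrix (Fin 2) (Fin 2) L) (hd : A.det = 1) {x : L}
    (hx : (quad A.trace).eval x = 0) (hne : x ≠ x⁻¹) :
    ∃ P : Matrix (Fin 2) (Fin 2) L, P.det ≠ 0 ∧ A * P = P * Matrix.diagonal ![x, x⁻¹] := by
  have ht := eq_add_inv hx
  have hx0 := root_ne_zero hx
  have hxi : x * x⁻¹ = 1 := mul_inv_cancel₀ hx0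
  rw [Matrix.trace_fin_two] at ht
  rw [Matrix.det_fin_two] at hd
  by_cases hb : A 0 1 = 0
  · by_cases hc : A 1 0 = 0
    · rw [hb, zero_mul, sub_zero] at hd
      have : A 0 0 = x ∨ A 0 0 = x⁻¹ := by
        rw [← sub_eq_zero, ← sub_eq_zero (b := x⁻¹), ← mul_eq_zero]
        linear_combination (A 0 0) * ht - hd + hxi
      rcases this with e | e
      · refine ⟨1, by simp, ?_⟩
        have e' : A 1 1 = x⁻¹ := by linear_combination ht - e
        ext i j
        fin_cases i <;> fin_cases j <;> simp [hb, hc, e, e']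
      · refine ⟨!![0, 1; 1, 0], by simp [Matrix.det_fin_two], ?_⟩
        have e' : A 1 1 = x := by linear_combination ht - e
        ext i j
        fin_cases i <;> fin_cases j <;>
          simp [Matrix.mul_apply, Fin.sum_univ_two, hb, hc, e, e']
    · refine ⟨!![x - A 1 1, x⁻¹ - A 1 1; A 1 0, A 1 0], ?_, ?_⟩
      · simp only [Matrix.det_fin_two, Matrix.of_apply, Matrix.cons_val', Matrix.cons_val_zero,
          Matrix.cons_val_one, Matrix.empty_val', Matrix.cons_val_fin_one]
        rw [← sub_mul]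
        exact mul_ne_zero (by simpa [sub_eq_zero] using hne) hc
      · ext i j
        fin_cases i <;> fin_cases j <;> simp [Matrix.mul_apply, Fin.sum_univ_two]
        · linear_combination x * ht - hd + hxi
        · linear_combination x⁻¹ * ht - hd + hxi
        · ring
        · ring
  · refine ⟨!![A 0 1, A 0 1; x - A 0 0, x⁻¹ - A 0 0], ?_, ?_⟩
    · simp only [Matrix.det_fin_two, Matrix.of_apply, Matrix.cons_val', Matrix.cons_val_zero,
        Matrix.cons_val_one, Matrix.empty_val', Matrix.cons_val_fin_one]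
      rw [← mul_sub]
      exact mul_ne_zero hb (by simpa [sub_eq_zero] using hne.symm)
    · ext i j
      fin_cases i <;> fin_cases j <;> simp [Matrix.mul_apply, Fin.sum_univ_two]
      · ring
      · ring
      · linear_combination x * ht - hd + hxi
      · linear_combination x⁻¹ * ht - hd + hxi

/-- A fixed matrix of a pair of diagonalised operators gives two inverse eigenvalues. -/
theorem exists_weight {n : Type} [Fintype n] [DecidableEq n] {T T' Q Q' W : Matrix n n L}
    {d d' : n → L} (hQ : IsUnit Q.det) (hQ' : IsUnit Q'.det) (hT : T * Q = Q * Matrix.diagonal d)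
    (hT' : T' * Q' = Q' * Matrix.diagonal d') (hW : W ≠ 0) (h : T * W * T'ᵀ = W) :
    ∃ i j, d i * d' j = 1 := by
  set W' := Q⁻¹ * W * Q'ᵀ⁻¹ with hW'
  have hQ'' : IsUnit Q'ᵀ.det := by rwa [det_transpose]
  have hWQ : W = Q * W' * Q'ᵀ := by
    rw [hW', ← mul_assoc, ← mul_assoc, Matrix.mul_nonsing_inv _ hQ, one_mul, mul_assoc,
      Matrix.nonsing_inv_mul _ hQ'', mul_one]
  have hTt : Q'ᵀ * T'ᵀ = Matrix.diagonal d' * Q'ᵀ := by
    rw [← transpose_mul, hT', transpose_mul, diagonal_transpose]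
  have e : Q * (Matrix.diagonal d * W' * Matrix.diagonal d') * Q'ᵀ = Q * W' * Q'ᵀ := by
    rw [← hWQ]
    conv_rhs => rw [← h, hWQ]
    simp only [mul_assoc]
    rw [hTt, ← mul_assoc T Q, hT]
    simp only [mul_assoc]
  have e' : Matrix.diagonal d * W' * Matrix.diagonal d' = W' := by
    have := congrArg (fun Z => Q⁻¹ * Z * Q'ᵀ⁻¹) e
    simpa only [mul_assoc, Matrix.mul_nonsing_inv _ hQ'', mul_one,
      Matrix.nonsing_inv_mul_cancel_left _ _ hQ] using this
  have hne : W' ≠ 0 := fun h0 => hW (by rw [hWQ, h0, mul_zero, zero_mul])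
  obtain ⟨i, j, hij⟩ : ∃ i j, W' i j ≠ 0 := by
    by_contra! hall
    exact hne (Matrix.ext hall)
  refine ⟨i, j, mul_right_cancel₀ hij ?_⟩
  have := congrFun (congrFun e' i) j
  rw [Matrix.mul_diagonal, Matrix.diagonal_mul] at this
  rw [one_mul]
  linear_combination this

theorem weight_cases [CharP L 3] {q : ℕ} (hq10 : q % 10 = 1 ∨ q % 10 = 9) (hq4 : q % 4 = 1) {x y : L}
    (hy : x ^ q = y) (hx : x ≠ 0) (hyq : y ^ q = x ∨ y ^ q = x⁻¹) {a b : ℤ}
    (ha : a = 2 ∨ a = -2 ∨ a = 4 ∨ a = -4) (hb : b = 0 ∨ b = 2 ∨ b = -2)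
    (h : x ^ a * y ^ b = 1) : y ^ 2 = x ^ 2 ∨ (x * y) ^ 2 = 1 := by
  have hy0 : y ≠ 0 := hy ▸ pow_ne_zero _ hx
  have hx0 : x ^ 2 ≠ 0 := pow_ne_zero _ hx
  have hy2 : y ^ 2 ≠ 0 := pow_ne_zero _ hy0
  have hfrob : ∀ i j : ℕ, x ^ i = y ^ j → y ^ i = x ^ j ∨ y ^ i * x ^ j = 1 := by
    intro i j e
    have e' := congrArg (· ^ q) e
    simp only [← pow_mul, mul_comm _ q] at e'
    simp only [pow_mul, hy] at e'
    rcases hyq with h' | h' <;> rw [h'] at e'
    · exact .inl e'
    · exact .inr (by rw [e', ← mul_pow, inv_mul_cancel₀ hx, one_pow])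
  have four : x ^ 4 = 1 → y ^ 2 = x ^ 2 ∨ (x * y) ^ 2 = 1 := by
    intro h4
    refine .inl ?_
    rw [← hy, ← Nat.div_add_mod q 4, hq4, pow_add, pow_one, pow_mul, h4, one_pow, one_mul]
  have small : x ^ 6 = 1 ∨ x ^ 10 = 1 → y ^ 2 = x ^ 2 ∨ (x * y) ^ 2 = 1 := by
    rintro (h6 | h10)
    · refine four ?_
      have hcube : (x ^ 2) ^ 3 = 1 := by rw [← pow_mul]; exact h6
      have : x ^ 2 = 1 := frobenius_inj L 3 (by simp only [frobenius_def, hcube, one_pow])
      rw [show 4 = 2 * 2 from rfl, pow_mul, this, one_pow]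
    · rw [← hy, ← Nat.div_add_mod q 10, pow_add, pow_mul, h10, one_pow, one_mul]
      rcases hq10 with e | e <;> rw [e]
      · exact .inl (by rw [pow_one])
      · exact .inr (by rw [← pow_succ', ← pow_mul, show (9 + 1) * 2 = 10 * 2 from rfl, pow_mul, h10, one_pow])
  have big : x ^ 4 = y ^ 2 ∨ x ^ 4 * y ^ 2 = 1 → y ^ 2 = x ^ 2 ∨ (x * y) ^ 2 = 1 := by
    intro h4
    refine small ?_
    rcases h4 with e | e
    · rcases hfrob 4 2 e with e' | e'
      · left
        refine mul_right_cancel₀ hx0 (Eq.trans ?_ (one_mul _).symm)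
        linear_combination e' + (x ^ 4 + y ^ 2) * e
      · right
        linear_combination e' + x ^ 2 * (x ^ 4 + y ^ 2) * e
    · have e' : y ^ 4 = x ^ 2 ∨ y ^ 4 * x ^ 2 = 1 := by
        have e'' := congrArg (· ^ q) e
        simp only [mul_pow, one_pow, ← pow_mul, mul_comm _ q] at e''
        simp only [pow_mul, hy] at e''
        rcases hyq with h' | h' <;> rw [h'] at e''
        · exact .inr e''
        · refine .inl ?_
          rw [inv_pow, mul_inv_eq_one₀ hx0] at e''
          exact e''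
      rcases e' with e' | e'
      · right
        linear_combination (x ^ 4 * y ^ 2 + 1) * e - x ^ 8 * e'
      · left
        have : x ^ 8 * y ^ 4 = 1 := by linear_combination (x ^ 4 * y ^ 2 + 1) * e
        refine mul_right_cancel₀ (mul_ne_zero hx0 (pow_ne_zero 4 hy0)) ?_
        linear_combination this - e'
  have key : ∀ n : ℕ, x ^ (n : ℤ) = x ^ n ∧ x ^ (-(n : ℤ)) = (x ^ n)⁻¹ ∧ y ^ (n : ℤ) = y ^ n ∧
      y ^ (-(n : ℤ)) = (y ^ n)⁻¹ := fun n =>
    ⟨zpow_natCast x n, by rw [_root_.zpow_neg, zpow_natCast], zpow_natCast y n,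
      by rw [_root_.zpow_neg, zpow_natCast]⟩
  obtain ⟨x2, x2', y2, y2'⟩ := key 2
  obtain ⟨x4, x4', -, -⟩ := key 4
  rcases ha with rfl | rfl | rfl | rfl <;> rcases hb with rfl | rfl | rfl <;>
    simp only [Nat.cast_ofNat] at x2 x2' y2 y2' x4 x4' <;>
    simp only [zpow_zero, mul_one, x2, x2', y2, y2', x4, x4'] at h
  · exact four (by linear_combination (x ^ 2 + 1) * h)
  · exact .inr (by rw [mul_pow, h])
  · exact .inl ((mul_inv_eq_one₀ hy2).1 h).symm
  · exact four (by rw [inv_eq_one] at h; linear_combination (x ^ 2 + 1) * h)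
  · exact .inl ((inv_mul_eq_one₀ hx0).1 h).symm
  · exact .inr (by rw [← _root_.mul_inv, inv_eq_one] at h; rw [mul_pow, h])
  · exact four h
  · exact big (.inr h)
  · exact big (.inl ((mul_inv_eq_one₀ hy2).1 h))
  · exact four (inv_eq_one.1 h)
  · exact big (.inl ((inv_mul_eq_one₀ (pow_ne_zero 4 hx)).1 h))
  · exact big (.inr (by rw [← _root_.mul_inv, inv_eq_one] at h; exact h))

end Diag

variable [Fintype K]

theorem lift (hK : Fintype.card K = (3 ^ m) ^ 2) (hm : 0 < m) (hm2 : Even m) (g : SL) (v : M4)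
    (hv : normSum (rho3 m g) (orderOf (rho3 m g)) v ≠ 0) :
    Om 3 (3 ^ m) (3 * orderOf (rho3 m g)) := by
  set W := normSum (rho3 m g) (orderOf (rho3 m g)) v
  have hfix : rho3 m g W = W := normSum_fixed _ _ (pow_orderOf_eq_one (rho3 m g)) v
  rw [rho3_apply] at hfix
  have finish : ∀ k : ℕ, (k = 3 ^ m - 1 ∨ k = 3 ^ m + 1 ∨ k = 3) →
      orderOf (rho3 m g) ∣ k → Om 3 (3 ^ m) (3 * orderOf (rho3 m g)) := by
    rintro k (rfl | rfl | rfl) hk
    · exact .inr (.inr (.inr (.inl (mul_dvd_mul_left 3 hk))))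
    · exact .inr (.inr (.inl (mul_dvd_mul_left 3 hk)))
    · exact .inr (.inr (.inr (.inr (.inr ⟨rfl, mul_dvd_mul_left 3 hk⟩))))
  let L := AlgebraicClosure K
  let ι : K →+* L := algebraMap K L
  haveI : CharP L 3 := charP_of_injective_algebraMap ι.injective 3
  set A := (g : M2) with hA
  obtain ⟨x, hx⟩ := exists_root (ι A.trace)
  have hx0 := root_ne_zero hx
  set q := 3 ^ m with hq
  by_cases hne : x = x⁻¹
  · have hx2 : x ^ 2 = 1 := by
      rw [sq]
      nth_rw 2 [hne]
      rw [mul_inv_cancel₀ hx0]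
    have ht : A.trace ^ q = A.trace := ι.injective (by
      have h2 : ι A.trace = 2 * x := by rw [eq_add_inv hx, ← hne, two_mul]
      rw [map_pow, h2]
      exact frob_two (p := 3) hq x hx2)
    rcases of_trace_fixed g ht with ⟨k, hk, hgk⟩ | ⟨e, M, he, hM, hg⟩
    · have hn := orderOf_rho3_dvd (m := m) hgk
      rcases hk with rfl | rfl
      · exact finish _ (.inl rfl) (hn.trans (Nat.div_dvd_of_dvd (dOdd_dvd_sub (p := 3) rfl)))
      · exact finish _ (.inr (.inl rfl)) (hn.trans (Nat.div_dvd_of_dvd (dOdd_dvd_add (p := 3) rfl)))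
    · exact finish 3 (.inr (.inr rfl)) (orderOf_rho3_dvd (pow_prime_unipotent he hM hg))
  obtain ⟨P, hP, hAP⟩ := exists_diag (A.map ι)
    (by rw [← RingHom.mapMatrix_apply, ← RingHom.map_det, hA, g.2, map_one])
    (by rw [show (A.map ι).trace = ι A.trace by simp [Matrix.trace_fin_two]]; exact hx) hne
  have twist : ∀ j : ℕ, ((sig 3 j g : M2).map ι) * P.map (iterateFrobenius L 3 j) =
      P.map (iterateFrobenius L 3 j) * Matrix.diagonal ![x ^ 3 ^ j, x⁻¹ ^ 3 ^ j] := by
    intro j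
    have e1 : (sig 3 j g : M2).map ι = (A.map ι).map (iterateFrobenius L 3 j) := by
      ext i k
      simp [sig_coe, iterateFrobenius_def, hA]
    rw [e1, ← Matrix.map_mul, hAP, Matrix.map_mul, Matrix.diagonal_map (map_zero _)]
    congr 2
    funext i
    fin_cases i <;> simp [iterateFrobenius_def]
  have hdet : ∀ j : ℕ, IsUnit (P.map (iterateFrobenius L 3 j)).det := by
    intro j
    rw [← RingHom.mapMatrix_apply, ← RingHom.map_det, isUnit_iff_ne_zero]
    simpa using hP
  obtain ⟨⟨i, k⟩, ⟨j, l⟩, hw⟩ := exists_weight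
    (T := (left g).map ι) (T' := (right m g).map ι) (W := W.map ι)
    (Q := P ⊗ₖ P.map (iterateFrobenius L 3 1))
    (Q' := P.map (iterateFrobenius L 3 m) ⊗ₖ P.map (iterateFrobenius L 3 m))
    (d := fun a => ![x, x⁻¹] a.1 * ![x ^ 3 ^ 1, x⁻¹ ^ 3 ^ 1] a.2)
    (d' := fun a => ![x ^ 3 ^ m, x⁻¹ ^ 3 ^ m] a.1 * ![x ^ 3 ^ m, x⁻¹ ^ 3 ^ m] a.2)
    (by
      rw [Matrix.det_kronecker]
      exact ((isUnit_iff_ne_zero.2 hP).pow _).mul ((hdet 1).pow _))
    (by
      rw [Matrix.det_kronecker]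
      exact ((hdet m).pow _).mul ((hdet m).pow _))
    (by
      rw [show (left g).map ι = A.map ι ⊗ₖ (sig 3 1 g : M2).map ι by
          ext a b; simp [left, hA],
        ← Matrix.mul_kronecker_mul, hAP, twist, Matrix.mul_kronecker_mul,
        Matrix.diagonal_kronecker_diagonal])
    (by
      rw [show (right m g).map ι = (sig 3 m g : M2).map ι ⊗ₖ (sig 3 m g : M2).map ι by
          ext a b; simp [right],
        ← Matrix.mul_kronecker_mul, twist, Matrix.mul_kronecker_mul,
        Matrix.diagonal_kronecker_diagonal])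
    (fun h0 => hv (Matrix.map_injective ι.injective (by simpa using h0)))
    (by rw [← Matrix.transpose_map, ← Matrix.map_mul, ← Matrix.map_mul, hfix])
  set y := x ^ q with hy
  have hyq : y ^ q = x ∨ y ^ q = x⁻¹ := by
    rw [hy, ← pow_mul, show q * q = 3 ^ (2 * m) by rw [hq, ← pow_add, two_mul]]
    refine root_cases hx (frob_root (p := 3) rfl ?_ hx)
    rw [← map_pow, show 3 ^ (2 * m) = Fintype.card K by rw [hK, ← pow_mul, mul_comm], FiniteField.pow_card]
  obtain ⟨t, ht⟩ := hm2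
  have hq20 : q % 20 = 1 ∨ q % 20 = 9 := by
    rw [hq, ht, ← two_mul, pow_mul]
    clear * -
    induction t with
    | zero => exact .inl rfl
    | succ t ih => rw [pow_succ, Nat.mul_mod]; rcases ih with e | e <;> rw [e] <;> norm_num
  have hcases : y ^ 2 = x ^ 2 ∨ (x * y) ^ 2 = 1 := by
    have key : ∃ a b : ℤ, (a = 2 ∨ a = -2 ∨ a = 4 ∨ a = -4) ∧ (b = 0 ∨ b = 2 ∨ b = -2) ∧
        x ^ a * y ^ b = 1 := by
      have hs : ∀ (z : L) (i : Fin 2), ∃ s : ℤ, (s = 1 ∨ s = -1) ∧ ![z, z⁻¹] i = z ^ s := by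
        intro z i
        fin_cases i
        · exact ⟨1, .inl rfl, by simp⟩
        · exact ⟨-1, .inr rfl, by simp⟩
      simp only [pow_one, inv_pow, ← hq, ← hy] at hw
      obtain ⟨s1, h1, e1⟩ := hs x i
      obtain ⟨s2, h2, e2⟩ := hs (x ^ 3) k
      obtain ⟨s3, h3, e3⟩ := hs y j
      obtain ⟨s4, h4, e4⟩ := hs y l
      rw [e1, e2, e3, e4, ← zpow_natCast x 3, ← _root_.zpow_mul, ← zpow_add₀ hx0,
        ← zpow_add₀ (pow_ne_zero _ hx0)] at hw
      refine ⟨_, _, ?_, ?_, hw⟩
      · rcases h1 with rfl | rfl <;> rcases h2 with rfl | rfl <;> simp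
      · rcases h3 with rfl | rfl <;> rcases h4 with rfl | rfl <;> simp
    obtain ⟨a, b, ha, hb, h⟩ := key
    exact weight_cases (q := q) (by omega) (by omega) hy.symm hx0 hyq ha hb h
  have matpow : ∀ k : ℕ, (x ^ k) ^ 2 = 1 → orderOf (rho3 m g) ∣ k := by
    intro k hk
    refine orderOf_rho3_dvd ?_
    have hsc : SemiconjBy P (Matrix.diagonal ![x, x⁻¹]) (A.map ι) := hAP.symm
    have hp := (hsc.pow_right k).eq
    have hinv : x⁻¹ ^ k = x ^ k := by
      rw [inv_pow]
      exact inv_eq_of_mul_eq_one_right (by rw [← sq, hk])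
    have hD : Matrix.diagonal ![x, x⁻¹] ^ k = x ^ k • (1 : Matrix (Fin 2) (Fin 2) L) := by
      rw [Matrix.diagonal_pow, Matrix.smul_one_eq_diagonal]
      congr 1
      funext i
      fin_cases i <;> simp [← inv_pow, hinv]
    rw [hD, Matrix.mul_smul, mul_one] at hp
    have hAk : (A.map ι) ^ k = x ^ k • 1 := by
      have := congrArg (· * P⁻¹) hp
      simpa [Matrix.mul_nonsing_inv_cancel_right _ _ (isUnit_iff_ne_zero.2 hP), Matrix.mul_nonsing_inv _ (isUnit_iff_ne_zero.2 hP)] using this.symm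
    rcases sq_eq_one_iff.1 hk with e | e <;> [left; right] <;>
      refine Matrix.map_injective ι.injective ?_ <;> show ι.mapMatrix (A ^ k) = ι.mapMatrix _ <;>
      rw [map_pow] <;> refine hAk.trans ?_ <;> rw [e] <;> ext a b <;>
      by_cases hab : a = b <;> simp [hab]
  rcases hcases with e | e
  · refine finish _ (.inl rfl) (matpow _ ?_)
    refine mul_right_cancel₀ (pow_ne_zero 2 hx0) ?_
    rw [one_mul, ← mul_pow, ← pow_succ, Nat.sub_add_cancel (Nat.one_le_pow _ _ (by norm_num)), ← hy, e]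
  · refine finish _ (.inr (.inl rfl)) (matpow _ ?_)
    rw [pow_add, pow_one, ← hy, mul_comm, e]

/-- The model in characteristic three. -/
theorem exists_model (hK : Fintype.card K = (3 ^ m) ^ 2) (hm : 0 < m) (hm2 : Even m) (N : ℕ) :
    ∃ (H : Type) (_ : Group H) (_ : Fintype H), N < Fintype.card H ∧
      Set.range (orderOf : H → ℕ) = {n | Om 3 (3 ^ m) n} := by
  haveI := finite_linearEquiv (K := K) (V := M4)
  refine exists_ext 3 (X := (rho3 (K := K) m).range) (Om 3 (3 ^ m)) (fun h => Om.mono h) ?_ ?_ ?_ N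
  · rintro ⟨_, g, rfl⟩
    show Om 3 (3 ^ m) (orderOf (rho3 m g))
    rw [orderOf_rho3]
    exact inner_base hK hm g
  · rintro ⟨_, g, rfl⟩ v hv
    exact lift hK hm hm2 g v hv
  intro n hn
  have hq : 3 ≤ 3 ^ m := Nat.le_self_pow hm.ne' 3
  have hodd : Odd (3 ^ m) := Odd.pow (by decide)
  have hfac : (3 ^ m) ^ 2 - 1 = (3 ^ m + 1) * (3 ^ m - 1) := by simpa using Nat.sq_sub_sq (3 ^ m) 1
  obtain ⟨η, hη⟩ := IsCyclic.exists_ofOrder_eq_natCard (α := Kˣ)
  rw [Nat.card_units, Nat.card_eq_fintype_card, hK, hfac] at hη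
  have mixed : ∀ a : ℕ, (a = 3 ^ m - 1 ∨ a = 3 ^ m + 1) →
      ∃ (g : (rho3 (K := K) m).range) (v : M4),
        normSum (g : M4 ≃ₗ[K] M4) (orderOf (g : M4 ≃ₗ[K] M4)) v ≠ 0 ∧
          orderOf (g : M4 ≃ₗ[K] M4) = a := by
    intro a ha
    have hdiv : 2 * a ∣ orderOf η := by
      rw [hη]
      rcases ha with rfl | rfl
      · exact mul_dvd_mul_right (even_iff_two_dvd.1 hodd.add_one) _
      · rw [mul_comm 2]
        exact mul_dvd_mul_left _ (even_iff_two_dvd.1 (Nat.Odd.sub_odd hodd odd_one))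
    obtain ⟨z, hz⟩ : ∃ z : Kˣ, orderOf z = 2 * a :=
      ⟨_, orderOf_pow_orderOf_div (orderOf_pos η).ne' hdiv⟩
    have hz0 : (z : K) ≠ 0 := z.ne_zero
    have hord : orderOf (rho3 m (dia z)) = a := by
      have hiff : ∀ k, (rho3 m (dia z)) ^ k = 1 ↔ a ∣ k := fun k => by
        rw [← map_pow, rho3_eq_one_iff, dia_pow, dia_pm_iff, ← pow_mul,
          ← orderOf_dvd_iff_pow_eq_one, hz, mul_comm k 2]
        exact Nat.mul_dvd_mul_iff_left two_pos
      exact Nat.dvd_antisymm (orderOf_dvd_of_pow_eq_one ((hiff a).2 dvd_rfl))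
        ((hiff _).1 (pow_orderOf_eq_one _))
    have h2a : (z : K) ^ (a * 2) = 1 := by
      rw [mul_comm a 2, ← hz, ← Units.val_pow_eq_pow_val, pow_orderOf_eq_one, Units.val_one]
    obtain ⟨v, hv, hfix⟩ : ∃ v : M4, v ≠ 0 ∧ rho3 m (dia z) v = v := by
      have hl : left (dia z) = Matrix.diagonal fun a : Fin 2 × Fin 2 =>
          ![(z : K), (z : K)⁻¹] a.1 * ![(z : K) ^ 3, ((z : K)⁻¹) ^ 3] a.2 := by
        show (dia z : M2) ⊗ₖ (sig 3 1 (dia z) : M2) = _
        rw [sig_coe, dia_coe, Matrix.diagonal_map (map_zero _), Matrix.diagonal_kronecker_diagonal]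
        congr 1
        funext a
        rcases a with ⟨i, j⟩
        fin_cases i <;> fin_cases j <;> simp [iterateFrobenius_def, frobenius_def]
      have hr : right m (dia z) = Matrix.diagonal fun a : Fin 2 × Fin 2 =>
          ![(z : K) ^ 3 ^ m, ((z : K)⁻¹) ^ 3 ^ m] a.1 * ![(z : K) ^ 3 ^ m, ((z : K)⁻¹) ^ 3 ^ m] a.2 := by
        show (sig 3 m (dia z) : M2) ⊗ₖ (sig 3 m (dia z) : M2) = _
        rw [sig_coe, dia_coe, Matrix.diagonal_map (map_zero _), Matrix.diagonal_kronecker_diagonal]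
        congr 1
        funext a
        rcases a with ⟨i, j⟩
        fin_cases i <;> fin_cases j <;> simp [iterateFrobenius_def, frobenius_def]
      rcases ha with rfl | rfl
      · refine ⟨Matrix.single (1, 0) (1, 1) 1, fun e => by
          simpa using congrFun (congrFun e (1, 0)) (1, 1), ?_⟩
        have hzq : ((z : K) ^ 3 ^ m) ^ 2 = (z : K) ^ 2 := by
          calc ((z : K) ^ 3 ^ m) ^ 2 = ((z : K) ^ (3 ^ m - 1 + 1)) ^ 2 := by
                rw [Nat.sub_add_cancel (by omega : 1 ≤ 3 ^ m)]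
            _ = _ := by rw [pow_add, pow_one, mul_pow, ← pow_mul, h2a, one_mul]
        rw [rho3_apply, hl, hr, diagonal_transpose]
        ext a b
        rw [Matrix.mul_diagonal, Matrix.diagonal_mul]
        by_cases hab : (1, 0) = a ∧ (1, 1) = b
        · obtain ⟨rfl, rfl⟩ := hab
          simp [Matrix.single_apply, inv_pow]
          field_simp
          linear_combination -hzq
        · simp [Matrix.single_apply, hab]
      · refine ⟨Matrix.single (1, 0) (0, 0) 1, fun e => by
          simpa using congrFun (congrFun e (1, 0)) (0, 0), ?_⟩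
        rw [rho3_apply, hl, hr, diagonal_transpose]
        ext a b
        rw [Matrix.mul_diagonal, Matrix.diagonal_mul]
        by_cases hab : (1, 0) = a ∧ (0, 0) = b
        · obtain ⟨rfl, rfl⟩ := hab
          simp [Matrix.single_apply, inv_pow]
          field_simp
          linear_combination h2a
        · simp [Matrix.single_apply, hab]
    exact ⟨⟨_, dia z, rfl⟩, v, by
      show normSum (rho3 m (dia z)) (orderOf (rho3 m (dia z))) v ≠ 0
      rw [hord, normSum_of_fixed _ _ _ hfix, ← Nat.cast_smul_eq_nsmul K]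
      exact smul_ne_zero (cast_ne_zero_of (p := 3) ha hm) hv, hord⟩
  rcases hn with h | h | h | h | ⟨h3, -⟩ | ⟨-, h⟩
  · obtain ⟨g, hg⟩ := exists_rho_order hK hm (.inr (dvd_refl (((3 ^ m) ^ 2 + 1) / dOdd 3)))
    exact .inl ⟨⟨_, g, rfl⟩, by show n ∣ orderOf (rho3 m g); rw [orderOf_rho3, hg]; exact h⟩
  · obtain ⟨g, hg⟩ := exists_rho_order hK hm (.inl (dvd_refl (((3 ^ m) ^ 2 - 1) / dOdd 3)))
    exact .inl ⟨⟨_, g, rfl⟩, by show n ∣ orderOf (rho3 m g); rw [orderOf_rho3, hg]; exact h⟩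
  · obtain ⟨g, v, hv, ho⟩ := mixed _ (.inr rfl)
    exact .inr ⟨g, v, hv, ho.symm ▸ h⟩
  · obtain ⟨g, v, hv, ho⟩ := mixed _ (.inl rfl)
    exact .inr ⟨g, v, hv, ho.symm ▸ h⟩
  · omega
  · obtain ⟨u, hu⟩ : ∃ u : SL, (u : M2) = !![1, 1; 0, 1] :=
      ⟨⟨!![1, 1; 0, 1], by simp [Matrix.det_fin_two]⟩, rfl⟩
    have hu2 : ((u * u : SL) : M2) = !![1, 2; 0, 1] := by
      rw [Matrix.SpecialLinearGroup.coe_mul, hu]
      ext i j
      fin_cases i <;> fin_cases j <;> simp [Matrix.mul_apply, Fin.sum_univ_two, one_add_one_eq_two]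
    have h30 : (3 : K) = 0 := CharP.cast_eq_zero K 3
    have ho : orderOf (rho3 m u) = 3 := by
      refine orderOf_eq_prime ?_ ?_
      · rw [← map_pow, rho3_eq_one_iff]
        left
        rw [pow_succ, sq, Matrix.SpecialLinearGroup.coe_mul, hu2, hu]
        ext i j
        fin_cases i <;> fin_cases j <;> simp [Matrix.mul_apply, Fin.sum_univ_two]
        linear_combination h30
      · rw [ne_eq, rho3_eq_one_iff]
        rintro (e | e) <;>
        · have := congrFun (congrFun e 0) 1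
          simp [hu] at this
    refine .inr ⟨⟨_, u, rfl⟩, Matrix.single (1, 1) (1, 1) 1, ?_, ?_⟩
    · show normSum (rho3 m u) (orderOf (rho3 m u)) _ ≠ 0
      rw [ho]
      intro e
      have hentry : ∀ w : SL, (rho3 m w (Matrix.single (1, 1) (1, 1) 1)) (0, 0) (1, 1) =
          ((w : M2) 0 1 * (w : M2) 0 1 ^ 3) * (((w : M2) 1 1 ^ 3 ^ m) * (w : M2) 1 1 ^ 3 ^ m) := by
        intro w
        rw [rho3_apply, Matrix.mul_apply, Finset.sum_eq_single (1, 1)]
        · simp [left, right, sig_coe, iterateFrobenius_def, frobenius_def]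
        · intro b _ hb
          rw [Matrix.mul_single_apply_of_ne _ _ _ _ _ hb, zero_mul]
        · simp
      have hsum : normSum (rho3 m u) 3 (Matrix.single (1, 1) (1, 1) 1) =
          Matrix.single (1, 1) (1, 1) 1 + rho3 m u (Matrix.single (1, 1) (1, 1) 1) +
            rho3 m (u * u) (Matrix.single (1, 1) (1, 1) 1) := by
        rw [normSum, Finset.sum_range_succ, Finset.sum_range_succ, Finset.sum_range_one, pow_zero,
          pow_one, map_mul, sq]
        rfl
      rw [hsum] at e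
      have := congrFun (congrFun e (0, 0)) (1, 1)
      rw [Matrix.add_apply, Matrix.add_apply, hentry, hentry, hu, hu2] at this
      simp [Matrix.single_apply] at this
      exact two_ne_zero' h30 this
    · show n ∣ 3 * orderOf (rho3 m u)
      rw [ho]; exact h
where
  two_ne_zero' : (3 : K) = 0 → (1 : K) + 2 * 2 ^ 3 = 0 → False := fun h e =>
    one_ne_zero (α := K) (by linear_combination (6 : K) * h - e)

end CfsgLib.CharsMore.SpectrumPSp4.Three
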