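import Cfsg.Prelude.Def_Classical
import Cfsg.Agent.Lib.KnownA.PSpFourThreeSpectrum
import Cfsg.Agent.Lib.CharsMore.SpectrumPSp4.Quad

/-!
An upper bound for the element orders of `PSp₄(q)`: for symplectic `A`, the matrix `A + A⁻¹` is
annihilated by a quadratic polynomial.
-/

set_option autoImplicit false

set_option linter.style.haveILetI false

namespace CfsgLib.CharsMore.SpectrumPSp4

open Polynomial Matrix

universe u

local notation "I2" => Fin 2 ⊕ Fin 2

/-- `A + A⁻¹` satisfies a quadratic. -/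
theorem sum_quadratic {R : Type u} [CommRing R] (A : Matrix I2 I2 R) :
    let y := A + -(Matrix.J (Fin 2) R * Aᵀ * Matrix.J (Fin 2) R)
    ∃ t d : R, y * y - t • y + d • 1 = 0 := by
  intro y
  obtain ⟨a, b, c, d, rfl⟩ : ∃ a b c d : Matrix (Fin 2) (Fin 2) R, A = fromBlocks a b c d :=
    ⟨_, _, _, _, (fromBlocks_toBlocks A).symm⟩
  have hy : y = fromBlocks (a + dᵀ) (b - bᵀ) (c - cᵀ) (d + aᵀ) := by
    simp only [y, Matrix.J, fromBlocks_transpose, fromBlocks_multiply, fromBlocks_neg,
      fromBlocks_add]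
    simp [sub_eq_add_neg]
  set M := a + dᵀ with hM
  have hM' : d + aᵀ = Mᵀ := by rw [hM, transpose_add, transpose_transpose, add_comm]
  set β := b 0 1 - b 1 0
  set γ := c 0 1 - c 1 0
  have hb : b - bᵀ = !![0, β; -β, 0] := by
    ext i j; fin_cases i <;> fin_cases j <;> simp [β]
  have hc : c - cᵀ = !![0, γ; -γ, 0] := by
    ext i j; fin_cases i <;> fin_cases j <;> simp [γ]
  refine ⟨M 0 0 + M 1 1, M 0 0 * M 1 1 - M 0 1 * M 1 0 + β * γ, ?_⟩
  rw [hy, hM', hb, hc, fromBlocks_multiply, fromBlocks_smul, ← fromBlocks_one, fromBlocks_smul,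
    sub_eq_add_neg, fromBlocks_neg, fromBlocks_add, fromBlocks_add, ← fromBlocks_zero]
  congr 1 <;> ext i j <;> fin_cases i <;> fin_cases j <;>
    simp [Matrix.mul_apply, Fin.sum_univ_two, Matrix.vecMul, dotProduct] <;> ring

variable {F : Type u} [Field F] [Fintype F]

theorem orderOf_mem (p : ℕ) [hp : Fact p.Prime] [CharP F p] (x : Cfsg.PSp 2 F) :
    Om p (Fintype.card F) (orderOf x) := by
  obtain ⟨g, rfl⟩ := QuotientGroup.mk_surjective x
  obtain ⟨m, -, hq⟩ := FiniteField.card F p
  set q := Fintype.card F with hqdef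
  set A : Matrix I2 I2 F := (g : Matrix I2 I2 F) with hA
  set B : Matrix I2 I2 F := -(Matrix.J (Fin 2) F * Aᵀ * Matrix.J (Fin 2) F) with hB
  have hAB : A * B = 1 := by
    have h := SymplecticGroup.mem_iff.1 g.2
    rw [hB, mul_neg, ← mul_assoc, ← mul_assoc, hA, h, Matrix.J_squared, neg_neg]
  have hBA : B * A = 1 := mul_eq_one_comm.1 hAB
  obtain ⟨t, d, hy⟩ := sum_quadratic A
  let L := AlgebraicClosure F
  haveI : CharP L p := charP_of_injective_algebraMap (algebraMap F L).injective p
  let ι : F →+* L := algebraMap F L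
  set AL : Matrix I2 I2 L := A.map ι with hAL
  set BL : Matrix I2 I2 L := B.map ι
  have hABL : AL * BL = 1 := by
    rw [← Matrix.map_mul, hAB, Matrix.map_one _ (map_zero _) (map_one _)]
  have hBAL : BL * AL = 1 := by
    rw [← Matrix.map_mul, hBA, Matrix.map_one _ (map_zero _) (map_one _)]
  obtain ⟨r₁, hr₁⟩ : ∃ r : L, (X ^ 2 - C (ι t) * X + C (ι d) : L[X]).eval r = 0 := by
    refine IsAlgClosed.exists_root _ ?_
    have : (X ^ 2 - C (ι t) * X + C (ι d) : L[X]).degree = 2 := by compute_degree!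
    rw [this]
    decide
  simp only [eval_add, eval_sub, eval_mul, eval_pow, eval_X, eval_C] at hr₁
  set r₂ := ι t - r₁ with hr₂
  have hann : aeval AL (quad r₁ * quad r₂) = 0 := by
    have hfac : ∀ r : L, aeval AL (quad r) = AL * (AL + BL - r • 1) := fun r => by
      simp only [quad, map_add, map_sub, map_mul, aeval_X, aeval_C, map_one, mul_sub,
        mul_add, hABL, Matrix.mul_smul, mul_one, Algebra.algebraMap_eq_smul_one, Matrix.smul_mul,
        one_mul, sq]
      abel
    have hyL : (AL + BL) * (AL + BL) - ι t • (AL + BL) + ι d • (1 : Matrix I2 I2 L) = 0 := by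
      have h := congrArg ι.mapMatrix hy
      simp only [map_add, map_sub, map_mul, map_zero] at h
      convert h using 4 <;>
        first
          | rfl
          | (simp only [RingHom.mapMatrix_apply]
             ext i j
             simp [AL, BL, hB, Matrix.one_apply, apply_ite ι] <;> ring)
    have hcomm : (AL + BL - r₁ • 1) * AL = AL * (AL + BL - r₁ • 1) := by
      simp [mul_sub, sub_mul, add_mul, mul_add, hABL, hBAL]
    rw [map_mul, hfac, hfac, mul_assoc, ← mul_assoc (_ - r₁ • 1) AL, hcomm, mul_assoc,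
      ← mul_assoc AL AL]
    have : (AL + BL - r₁ • 1) * (AL + BL - r₂ • 1) = 0 := by
      rw [← hyL, sub_mul, mul_sub, mul_sub]
      simp only [Matrix.mul_smul, Matrix.smul_mul, one_mul, mul_one, smul_smul, hr₂]
      match_scalars <;> first | ring1 | linear_combination hr₁ | linear_combination -hr₁
    rw [this, mul_zero]
  have concl : ∀ (n : ℕ) (c : L), c ^ 2 = 1 → quad r₁ * quad r₂ ∣ X ^ n - C c →
      orderOf (g : Cfsg.PSp 2 F) ∣ n := by
    intro n c hc hd
    obtain ⟨e, he⟩ := hd
    have h := congrArg (aeval AL) he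
    rw [map_mul _ (quad r₁ * quad r₂), hann, zero_mul, map_sub, map_pow, aeval_X, aeval_C,
      Algebra.algebraMap_eq_smul_one, sub_eq_zero] at h
    obtain ⟨c', rfl⟩ : ∃ c' : F, ι c' = c := by
      rcases sq_eq_one_iff.1 hc with rfl | rfl
      · exact ⟨1, map_one _⟩
      · exact ⟨-1, by rw [map_neg, map_one]⟩
    refine orderOf_dvd_of_pow_eq_one
      (CfsgLib.KnownA.PSpFourThreeSpectrum.mk_pow_eq_one g n c' ?_)
    refine Matrix.map_injective ι.injective ?_
    show ι.mapMatrix (A ^ n) = ι.mapMatrix (c' • 1)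
    rw [map_pow]
    refine h.trans ?_
    ext i j
    simp [Matrix.one_apply, apply_ite ι]
  have hfix : ∀ a : F, ι a ^ q = ι a := fun a => by
    rw [← map_pow, hqdef, FiniteField.pow_card]
  have hsum : r₁ ^ q + r₂ ^ q = ι t := by
    rw [← hfix t, show ι t = r₁ + r₂ by rw [hr₂]; ring, hq, add_pow_expChar_pow]
  have hr₁q : r₁ ^ q = r₁ ∨ r₁ ^ q = r₂ := by
    have h := congrArg (iterateFrobenius L p m) hr₁
    rw [map_add, map_sub, map_mul, map_pow, map_zero] at h
    simp only [iterateFrobenius_def, ← hq, hfix] at h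
    have : (r₁ ^ q - r₁) * (r₁ ^ q - r₂) = 0 := by
      rw [hr₂]
      linear_combination h - hr₁
    simpa [sub_eq_zero] using this
  have hd2 : (dOdd p) ∣ q - 1 ∧ dOdd p ∣ q + 1 := ⟨dOdd_dvd_sub hq, dOdd_dvd_add hq⟩
  have hone : ∀ {f : L[X]} {n : ℕ} {c : L}, c ^ 2 = 1 → f ∣ X ^ n - C c →
      f ∣ X ^ (n * dOdd p) - 1 := by
    intro f n c hc hf
    refine hf.trans ?_
    have := sub_dvd_pow_sub_pow ((X : L[X]) ^ n) (C c) (dOdd p)
    rwa [← pow_mul, ← C_pow, pow_dOdd hc, C_1] at this
  have hq1 : q ^ 2 - 1 = (q + 1) * (q - 1) := by simpa using Nat.sq_sub_sq q 1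
  by_cases hr1f : r₁ ^ q = r₁
  · have hr2f : r₂ ^ q = r₂ := by
      rw [hr1f] at hsum
      rw [hr₂]
      linear_combination hsum
    have hsm : ∀ {n : ℕ}, (n = (q - 1) / dOdd p ∨ n = (q + 1) / dOdd p) →
        n * dOdd p = q - 1 ∨ n * dOdd p = q + 1 := by
      rintro n (rfl | rfl)
      · exact .inl (Nat.div_mul_cancel hd2.1)
      · exact .inr (Nat.div_mul_cancel hd2.2)
    have hbig : ∀ {n : ℕ}, (n = (q - 1) / dOdd p ∨ n = (q + 1) / dOdd p) →
        quad r₁ * quad r₂ ∣ (X ^ (n * dOdd p) - 1) ^ p → Om p q (orderOf (g : Cfsg.PSp 2 F)) := by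
      intro n hn hd
      have h := concl _ 1 (one_pow 2) (by rw [C_1]; exact pow_p_dvd hd)
      rcases hsm hn with e | e <;> rw [e, mul_comm] at h
      · exact .inr (.inr (.inr (.inl h)))
      · exact .inr (.inr (.inl h))
    by_cases hr : r₁ = r₂
    · rcases fixed_cases hq hr1f with ⟨e, he, her⟩ | ⟨n, c, hn, hc, hd⟩
      · obtain ⟨k, hk4, hk⟩ : ∃ k, 4 ≤ p ^ k ∧ ∀ j, j ∣ p ^ k → Om p q j := by
          have h2 := hp.out.two_le
          rcases eq_or_ne p 2 with e2 | h2'
          · exact ⟨2, by rw [e2]; norm_num,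
              fun j hj => .inr (.inr (.inr (.inr (.inl ⟨e2, by rw [e2] at hj; exact hj⟩))))⟩
          rcases eq_or_ne p 3 with e3 | h3'
          · exact ⟨2, by rw [e3]; norm_num,
              fun j hj => .inr (.inr (.inr (.inr (.inr ⟨e3, by rw [e3] at hj; exact hj⟩))))⟩
          have h4 : p ≠ 4 := fun h => by
            have := hp.out
            rw [h] at this
            norm_num at this
          exact ⟨1, by rw [pow_one]; omega,
            fun j hj => .inr (.inr (.inl ((hj.trans (pow_one p).dvd).trans (dvd_mul_right _ _))))⟩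
        refine hk _ (concl _ (e ^ p ^ k) (by rw [← pow_mul, mul_comm, pow_mul, he, one_pow]) ?_)
        rw [← hr, quad_two he her, ← pow_add,
          show (X : L[X]) ^ p ^ k - C (e ^ p ^ k) = (X - C e) ^ p ^ k by
            rw [sub_pow_expChar_pow, C_pow]]
        exact pow_dvd_pow _ hk4
      · refine hbig hn ?_
        rw [← hr, ← sq]
        exact (pow_dvd_pow_of_dvd (hone hc hd) 2).trans (pow_dvd_pow _ hp.out.two_le)
    have hcop := isCoprime_quad hr
    have hlin : ∀ {r e : L} {n : ℕ}, e ^ 2 = 1 → r = 2 * e →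
        quad r ∣ (X ^ (n * dOdd p) - 1) ^ p := by
      intro r e n he her
      rw [quad_two he her]
      refine (pow_dvd_pow_of_dvd ?_ 2).trans (pow_dvd_pow _ hp.out.two_le)
      rw [dvd_iff_isRoot, IsRoot.def]
      simp [mul_comm n, pow_mul, pow_dOdd he]
    have hbig1 : ∀ {r : L} {n : ℕ} {c : L}, c ^ 2 = 1 → quad r ∣ X ^ n - C c →
        quad r ∣ (X ^ (n * dOdd p) - 1) ^ p := fun hc hd =>
      (hone hc hd).trans (dvd_pow_self _ hp.out.ne_zero)
    rcases fixed_cases hq hr1f with ⟨e, he, her⟩ | ⟨n, c, hn, hc, hd⟩ <;>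
      rcases fixed_cases hq hr2f with ⟨e', he', her'⟩ | ⟨n', c', hn', hc', hd'⟩
    · have hee : e' = -e := by
        rcases sq_eq_sq_iff_eq_or_eq_neg.1 (he'.trans he.symm) with h | h
        · exact absurd (her.trans (by rw [h] at her'; exact her'.symm)) hr
        · exact h
      have h := concl (2 * p) 1 (one_pow 2) (by
        rw [C_1, quad_two he her, quad_two he' her', ← mul_pow, hee,
          show (X - C e) * (X - C (-e)) = (X ^ 2 - 1 : L[X]) by
            rw [C_neg]
            have h1 : C e ^ 2 = (1 : L[X]) := by rw [← C_pow, he, C_1]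
            linear_combination -h1]
        exact pow_p_dvd (pow_dvd_pow _ hp.out.two_le))
      refine Or.inr (.inr (.inl ?_))
      rcases eq_or_ne p 2 with rfl | h2
      · exfalso
        refine hr ?_
        have : (2 : L) = 0 := CharP.cast_eq_zero L 2
        rw [her, her', this, zero_mul, zero_mul]
      · refine h.trans ?_
        rw [mul_comm]
        refine mul_dvd_mul_left _ ?_
        have := hd2.2
        rwa [dOdd, if_neg h2] at this
    · exact hbig hn' (hcop.mul_dvd (hlin he her) (hbig1 hc' hd'))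
    · exact hbig hn (hcop.mul_dvd (hbig1 hc hd) (hlin he' her'))
    · refine Or.inr (Or.inl (concl _ 1 (one_pow 2) ?_))
      rw [C_1]
      have hdvd : ∀ {n : ℕ}, (n = (q - 1) / dOdd p ∨ n = (q + 1) / dOdd p) →
          n * dOdd p ∣ (q ^ 2 - 1) / dOdd p := by
        intro n hn
        rw [hq1]
        rcases hsm hn with e | e <;> rw [e]
        · rw [mul_comm, Nat.mul_div_assoc _ hd2.2]
          exact dvd_mul_right _ _
        · rw [Nat.mul_div_assoc _ hd2.1]
          exact dvd_mul_right _ _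
      have hmon : ∀ {r : L} {n : ℕ} {c : L}, (n = (q - 1) / dOdd p ∨ n = (q + 1) / dOdd p) →
          c ^ 2 = 1 → quad r ∣ X ^ n - C c → quad r ∣ X ^ ((q ^ 2 - 1) / dOdd p) - 1 := by
        intro r n c hn hc hd
        obtain ⟨k, hk⟩ := hdvd hn
        refine (hone hc hd).trans ?_
        have h1 := sub_dvd_pow_sub_pow ((X : L[X]) ^ (n * dOdd p)) 1 k
        rw [one_pow, ← pow_mul, ← hk] at h1
        exact h1
      exact hcop.mul_dvd (hmon hn hc hd) (hmon hn' hc' hd')
  · have hr12 : r₁ ^ q = r₂ := hr₁q.resolve_left hr1f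
    have hr21 : r₂ ^ q = r₁ := by
      rw [hr12] at hsum
      rw [hr₂] at hsum ⊢
      linear_combination hsum
    have hne12 : r₁ ≠ r₂ := fun h => hr1f (hr12.trans h.symm)
    obtain ⟨x, hx⟩ := exists_root r₁
    have hy' := frob_root hq hr12 hx
    have hxx := frob_root hq hr21 hy'
    rw [← pow_mul, ← sq] at hxx
    have hnex : ∀ {r z : L}, (quad r).eval z = 0 → r ^ q ≠ r → z ≠ z⁻¹ := by
      intro r z hz hr hzz
      refine hr ?_
      have hz2 : z ^ 2 = 1 := by
        rw [sq]; nth_rw 2 [hzz]; rw [mul_inv_cancel₀ (root_ne_zero hz)]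
      rw [eq_add_inv hz, ← hzz, ← two_mul]
      exact frob_two hq z hz2
    have hx0 := root_ne_zero hx
    have hcq : ∀ c : L, c ^ 2 = 1 → c ^ q = c := by
      intro c hc
      rcases sq_eq_one_iff.1 hc with rfl | rfl
      · rw [one_pow]
      · rw [hq, neg_one_pow_expChar_pow]
    have main : ∀ N : ℕ, x ^ N = 1 → dOdd p ∣ N → orderOf (g : Cfsg.PSp 2 F) ∣ N / dOdd p := by
      intro N hN hdN
      obtain ⟨c, hc, hn⟩ := pow_half hN hdN
      refine concl _ c hc ((isCoprime_quad hne12).mul_dvd (quad_dvd hx (hnex hx hr1f) hn hc)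
        (quad_dvd hy' (hnex hy' (fun h => hne12 (hr21.symm.trans h))) ?_ hc))
      rw [← pow_mul, mul_comm, pow_mul, hn, hcq c hc]
    have hq0 : 1 ≤ q ^ 2 := Nat.one_le_pow _ _ Fintype.card_pos
    rcases root_cases hx hxx with h | h
    · refine .inr (.inl (main _ (mul_right_cancel₀ hx0 (by
        rw [← pow_succ, Nat.sub_add_cancel hq0, one_mul, h])) ?_))
      rw [hq1]
      exact hd2.1.mul_left _
    · refine .inl (main _ (by rw [pow_succ, h, inv_mul_cancel₀ hx0]) ?_)
      unfold dOdd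
      split_ifs with h2
      · exact one_dvd _
      · rw [hq]
        exact even_iff_two_dvd.1 (((hp.out.odd_of_ne_two h2).pow).pow.add_one)

end CfsgLib.CharsMore.SpectrumPSp4
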