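import Cfsg.Agent.Lib.KnownB.RestrictScalars
import Cfsg.Agent.Lib.Classical.SympSimple
import Cfsg.Agent.Lib.Recog.ProjSpectrum
import Cfsg.Agent.Lib.CharsMore.SpectrumPSp4.Upper

/-!
Elements of `PSp₄(q)` realising the maximal orders.
-/

set_option autoImplicit false
set_option linter.style.haveILetI false

namespace CfsgLib.CharsMore.SpectrumPSp4

open Polynomial Matrix

universe u

local notation "I2" => Fin 2 ⊕ Fin 2

section slTwo

variable {F : Type u} [Field F] [Fintype F] (p : ℕ) [hp : Fact p.Prime] [CharP F p]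
include p hp

/-- Elements of order `q ± 1` in `SL₂(q)`. -/
theorem exists_sl_order {n : ℕ} (hn : n = Fintype.card F - 1 ∨ n = Fintype.card F + 1) :
    ∃ g : Matrix.SpecialLinearGroup (Fin 2) F, orderOf g = n := by
  rcases hn with rfl | rfl
  · obtain ⟨ζ, hζ⟩ := IsCyclic.exists_ofOrder_eq_natCard (α := Fˣ)
    rw [Nat.card_units, Nat.card_eq_fintype_card] at hζ
    let D : Fˣ →* Matrix.SpecialLinearGroup (Fin 2) F :=
      { toFun := fun a => ⟨!![(a : F), 0; 0, ((a⁻¹ : Fˣ) : F)], by simp [Matrix.det_fin_two]⟩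
        map_one' := by ext i j; fin_cases i <;> fin_cases j <;> simp
        map_mul' := fun a b => Subtype.ext (by
          show (!![((a * b : Fˣ) : F), 0; 0, (((a * b)⁻¹ : Fˣ) : F)] : Matrix (Fin 2) (Fin 2) F) =
            !![(a : F), 0; 0, ((a⁻¹ : Fˣ) : F)] * !![(b : F), 0; 0, ((b⁻¹ : Fˣ) : F)]
          simp [mul_comm]) }
    refine ⟨D ζ, (orderOf_injective D (fun a b h => ?_) ζ).trans hζ⟩
    exact Units.ext (congrFun (congrFun (congrArg Subtype.val h) 0) 0)
  set q := Fintype.card F with hq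
  let L := FiniteField.Extension F p 2
  haveI : Fintype L := Fintype.ofFinite L
  have hcard : Fintype.card L = q ^ 2 := by
    rw [← Nat.card_eq_fintype_card, FiniteField.natCard_extension, Nat.card_eq_fintype_card]
  obtain ⟨η, hη⟩ := IsCyclic.exists_ofOrder_eq_natCard (α := Lˣ)
  rw [Nat.card_units, Nat.card_eq_fintype_card, hcard] at hη
  have h2 : 2 ≤ q := Fintype.one_lt_card
  have hfac : q ^ 2 - 1 = (q - 1) * (q + 1) := by
    rw [mul_comm]; simpa using Nat.sq_sub_sq q 1
  set ζ : Lˣ := η ^ (q - 1) with hζ'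
  have hζ : orderOf ζ = q + 1 := by
    rw [hζ', orderOf_pow_of_dvd (by omega) (by rw [hη, hfac]; exact dvd_mul_right _ _), hη, hfac,
      Nat.mul_div_cancel_left _ (by omega)]
  set r : F := Algebra.trace F L (ζ : L)
  have hζq : (ζ : L) ^ q = (ζ : L)⁻¹ := by
    refine eq_inv_of_mul_eq_one_left ?_
    rw [← pow_succ, ← Units.val_pow_eq_pow_val, ← hζ, pow_orderOf_eq_one, Units.val_one]
  have hr : algebraMap F L r = (ζ : L) + (ζ : L)⁻¹ := by
    rw [FiniteField.algebraMap_trace_eq_sum_pow, FiniteField.finrank_extension,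
      Finset.sum_range_succ, Finset.sum_range_one, Nat.card_eq_fintype_card]
    simp [← hq, hζq]
  refine ⟨⟨!![r, -1; 1, 0], by simp [Matrix.det_fin_two]⟩, ?_⟩
  set g : Matrix (Fin 2) (Fin 2) F := !![r, -1; 1, 0] with hg
  set gL : Matrix (Fin 2) (Fin 2) L := g.map (algebraMap F L) with hgL
  have hgL' : gL = !![(ζ : L) + (ζ : L)⁻¹, -1; 1, 0] := by
    ext i j; fin_cases i <;> fin_cases j <;> simp [hgL, hg, hr]
  have hne : (ζ : L) ≠ (ζ : L)⁻¹ := by
    intro h
    have h1 : orderOf ζ ∣ 2 := orderOf_dvd_of_pow_eq_one (Units.ext (by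
      rw [Units.val_pow_eq_pow_val, sq]
      nth_rw 2 [h]
      simp))
    have := Nat.le_of_dvd two_pos h1
    omega
  have hζ0 : (ζ : L) ≠ 0 := ζ.ne_zero
  have hpow : ∀ k : ℕ, g ^ k = 1 ↔ ζ ^ k = 1 := by
    intro k
    have hmap : g ^ k = 1 ↔ gL ^ k = 1 := by
      have e : gL ^ k = (algebraMap F L).mapMatrix (g ^ k) := by
        rw [map_pow]; rfl
      rw [e]
      exact ⟨fun h => by rw [h, map_one], fun h => Matrix.map_injective (algebraMap F L).injective
        (h.trans (map_one (algebraMap F L).mapMatrix).symm)⟩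
    rw [hmap]
    constructor
    · intro h
      have hv : gL *ᵥ ![(ζ : L), 1] = (ζ : L) • ![(ζ : L), 1] := by
        rw [hgL']
        have e : ∀ z : L, z ≠ 0 → !![z + z⁻¹, -1; 1, 0] *ᵥ ![z, 1] = z • ![z, 1] := fun z hz => by
          funext i; fin_cases i <;> simp [Matrix.mulVec, dotProduct, Fin.sum_univ_two]
          first
            | ring1
            | linear_combination (mul_inv_cancel₀ hz)
        exact e _ hζ0
      have hk : ∀ j : ℕ, gL ^ j *ᵥ ![(ζ : L), 1] = (ζ : L) ^ j • ![(ζ : L), 1] := by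
        intro j
        induction j with
        | zero => simp
        | succ j ih => rw [pow_succ, ← mulVec_mulVec, hv, mulVec_smul, ih, smul_smul, pow_succ']
      have := congrFun (hk k) 1
      rw [h, one_mulVec] at this
      exact Units.ext (by simpa using this.symm)
    · intro h
      have hz : (quad ((ζ : L) + (ζ : L)⁻¹)).eval (ζ : L) = 0 := by
        rw [eval_quad]; linear_combination -(mul_inv_cancel₀ hζ0)
      obtain ⟨e, he⟩ := quad_dvd hz hne (n := k)
        (by rw [← Units.val_pow_eq_pow_val, h, Units.val_one]) (one_pow 2)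
      have hzero : aeval gL (quad ((ζ : L) + (ζ : L)⁻¹)) = 0 := by
        rw [hgL']
        simp only [quad, map_add, map_sub, map_mul, map_pow, aeval_X, aeval_C, map_one]
        ext i j; fin_cases i <;> fin_cases j <;>
          simp [sq, Matrix.mul_apply, Fin.sum_univ_two, Algebra.algebraMap_eq_smul_one]
      have := congrArg (aeval gL) he
      rwa [map_mul, hzero, zero_mul, C_1, map_sub, map_pow, aeval_X, map_one, sub_eq_zero] at this
  refine (orderOf_eq_orderOf_iff.2 fun k => ?_).trans hζ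
  rw [← hpow]
  constructor
  · intro h
    exact (Matrix.SpecialLinearGroup.coe_pow _ k).symm.trans (congrArg Subtype.val h)
  · intro h
    exact Subtype.ext ((Matrix.SpecialLinearGroup.coe_pow _ k).trans h)

variable {p}

omit [Fintype F] in
/-- The only involution of `SL₂`. -/
theorem pow_half_eq_neg_one (h2 : p ≠ 2) {g : Matrix.SpecialLinearGroup (Fin 2) F} {n : ℕ}
    (hg : orderOf g = n) (hn : Even n) (h0 : 0 < n) :
    ((g ^ (n / 2) : Matrix.SpecialLinearGroup (Fin 2) F) : Matrix (Fin 2) (Fin 2) F) = -1 := by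
  have hsq : (g ^ (n / 2)) ^ 2 = 1 := by
    rw [← pow_mul, Nat.div_mul_cancel hn.two_dvd, ← hg, pow_orderOf_eq_one]
  have h2F : (2 : F) ≠ 0 := by
    intro h
    exact h2 ((Nat.prime_dvd_prime_iff_eq hp.out Nat.prime_two).1
      ((CharP.cast_eq_zero_iff F p 2).1 (by exact_mod_cast h)))
  obtain ⟨r, hr, he⟩ := Matrix.SpecialLinearGroup.mem_center_iff.1
    (CfsgLib.Recog.sq_eq_one_mem_center h2F hsq)
  rcases sq_eq_one_iff.1 (show r ^ 2 = 1 by simpa using hr) with rfl | rfl
  · exfalso
    have h1 : g ^ (n / 2) = 1 := Subtype.ext (by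
      rw [← he, Matrix.SpecialLinearGroup.coe_one]; simp)
    have h3 := Nat.le_of_dvd (by have := hn.two_dvd; omega) (hg ▸ orderOf_dvd_of_pow_eq_one h1)
    omega
  · rw [← he]
    ext i j
    by_cases hij : i = j <;> simp [hij]

end slTwo

variable {F : Type u} [Field F] [Fintype F] {p : ℕ} [hp : Fact p.Prime] [CharP F p]

omit [Fintype F] hp [CharP F p] in
theorem mk_eq_one_iff (g : Matrix.symplecticGroup (Fin 2) F) :
    (g : Cfsg.PSp 2 F) = 1 ↔ (g : Matrix I2 I2 F) = 1 ∨ (g : Matrix I2 I2 F) = -1 := by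
  rw [QuotientGroup.eq_one_iff, CfsgLib.Classical.mem_center_sp_iff]

/-- The orders `(q² ± 1) / d`. -/
theorem exists_torus {N : ℕ} (hN : N = Fintype.card F ^ 2 - 1 ∨ N = Fintype.card F ^ 2 + 1) :
    ∃ x : Cfsg.PSp 2 F, orderOf x = N / dOdd p := by
  let K := FiniteField.Extension F p 2
  haveI : Fintype K := Fintype.ofFinite K
  haveI : CharP K p := charP_of_injective_algebraMap (algebraMap F K).injective p
  have hK : Fintype.card K = Fintype.card F ^ 2 := by
    rw [← Nat.card_eq_fintype_card, FiniteField.natCard_extension, Nat.card_eq_fintype_card]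
  rw [← hK] at hN
  obtain ⟨g, hg⟩ := exists_sl_order p hN
  let ρ : Matrix.SpecialLinearGroup (Fin 2) K →* ((Fin 2 → K) ≃ₗ[F] (Fin 2 → K)) :=
    CfsgLib.KnownB.RestrictScalars.resHom.comp Matrix.SpecialLinearGroup.toLin'
  have hρ : ∀ (s : Matrix.SpecialLinearGroup (Fin 2) K) (v : Fin 2 → K),
      ρ s v = (s : Matrix (Fin 2) (Fin 2) K) *ᵥ v := fun s v => rfl
  let B : LinearMap.BilinForm F (Fin 2 → K) :=
    LinearMap.mk₂ F (fun x y => Algebra.trace F K (x 0 * y 1 - x 1 * y 0))
      (fun x x' y => by rw [← map_add]; congr 1; simp only [Pi.add_apply]; ring)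
      (fun c x y => by
        rw [← map_smul]; congr 1; simp only [Pi.smul_apply, smul_mul_assoc, smul_sub])
      (fun x y y' => by rw [← map_add]; congr 1; simp only [Pi.add_apply]; ring)
      (fun c x y => by
        rw [← map_smul]; congr 1; simp only [Pi.smul_apply, mul_smul_comm, smul_sub])
  obtain ⟨E, hE⟩ := CfsgLib.KnownB.RestrictScalars.alt_coords B
    (fun x => by simp [B, mul_comm]) (fun x hx => by
      have h0 : x 0 = 0 := CfsgLib.KnownB.RestrictScalars.trace_separates (F := F) fun c => by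
        simpa [B, mul_comm] using hx ![0, c]
      have h1 : x 1 = 0 := CfsgLib.KnownB.RestrictScalars.trace_separates (F := F) fun c => by
        simpa [B, mul_comm] using hx ![c, 0]
      funext i; fin_cases i <;> assumption)
    (m := 2) (by
      rw [CfsgLib.KnownB.RestrictScalars.finrank_fun hK, Fintype.card_fin])
  have hB : ∀ s x y, B (ρ s x) (ρ s y) = B x y := fun s x y => by
    have hd := s.2
    rw [Matrix.det_fin_two] at hd
    show Algebra.trace F K _ = Algebra.trace F K _
    congr 1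
    simp only [hρ, Matrix.mulVec, dotProduct, Fin.sum_univ_two]
    linear_combination (x 0 * y 1 - x 1 * y 0) * hd
  let φ : Matrix.SpecialLinearGroup (Fin 2) K →* Matrix.symplecticGroup (Fin 2) F :=
    (CfsgLib.KnownB.RestrictScalars.matHom ρ E).codRestrict _ fun s =>
      (CfsgLib.Geometry.mem_sp_iff 2 F _).2 fun u v => by
        rw [CfsgLib.KnownB.RestrictScalars.matHom_mulVec, CfsgLib.KnownB.RestrictScalars.matHom_mulVec,
          ← hE, LinearEquiv.apply_symm_apply, LinearEquiv.apply_symm_apply, hB, hE]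
  have hmul : ∀ (s : Matrix.SpecialLinearGroup (Fin 2) K) (v : I2 → F),
      (φ s : Matrix I2 I2 F) *ᵥ v = E.symm ((s : Matrix (Fin 2) (Fin 2) K) *ᵥ E v) := fun s v =>
    CfsgLib.KnownB.RestrictScalars.matHom_mulVec ρ E s v
  have hiff : ∀ (s : Matrix.SpecialLinearGroup (Fin 2) K), ((φ s : Cfsg.PSp 2 F) = 1 ↔
      (s : Matrix (Fin 2) (Fin 2) K) = 1 ∨ (s : Matrix (Fin 2) (Fin 2) K) = -1) := by
    intro s
    rw [mk_eq_one_iff]
    refine or_congr ⟨fun h => Matrix.ext_iff_mulVec.2 fun v => ?_,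
        fun h => Matrix.ext_iff_mulVec.2 fun v => ?_⟩
      ⟨fun h => Matrix.ext_iff_mulVec.2 fun v => ?_, fun h => Matrix.ext_iff_mulVec.2 fun v => ?_⟩
    · have := congrArg E (hmul s (E.symm v))
      rw [h] at this
      rw [one_mulVec, LinearEquiv.apply_symm_apply, LinearEquiv.apply_symm_apply] at this
      rw [one_mulVec]
      exact this.symm
    · rw [hmul, h, one_mulVec, LinearEquiv.symm_apply_apply, one_mulVec]
    · have := congrArg E (hmul s (E.symm v))
      rw [h] at this
      rw [neg_mulVec, one_mulVec, map_neg, LinearEquiv.apply_symm_apply,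
        LinearEquiv.apply_symm_apply] at this
      rw [neg_mulVec, one_mulVec]
      exact this.symm
    · rw [hmul, h, neg_mulVec, one_mulVec, map_neg, LinearEquiv.symm_apply_apply, neg_mulVec, one_mulVec]
  have hq1 : 2 ≤ Fintype.card K := Fintype.one_lt_card
  have hN0 : 0 < N := by omega
  refine ⟨φ g, ?_⟩
  refine (orderOf_eq_iff (Nat.div_pos ?_ ?_)).2 ⟨?_, fun j hj hj0 h => ?_⟩
  · have hd : dOdd p ≤ 2 := by unfold dOdd; split_ifs <;> omega
    obtain ⟨mm, -, hq⟩ := FiniteField.card K p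
    unfold dOdd
    split_ifs with h2
    · omega
    · have : 3 ≤ Fintype.card K := by
        rw [hq]
        have := hp.out.two_le
        exact (show 3 ≤ p by omega).trans (Nat.le_self_pow mm.ne_zero p)
      omega
  · unfold dOdd; split_ifs <;> omega
  · rw [← QuotientGroup.mk_pow, ← map_pow, hiff]
    unfold dOdd
    split_ifs with h2
    · left
      rw [Nat.div_one, ← hg, pow_orderOf_eq_one, Matrix.SpecialLinearGroup.coe_one]
    · right
      refine pow_half_eq_neg_one h2 hg ?_ hN0
      obtain ⟨mm, -, hq⟩ := FiniteField.card K p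
      have ho : Odd (Fintype.card K) := hq ▸ (hp.out.odd_of_ne_two h2).pow
      rcases hN with rfl | rfl
      · exact Nat.Odd.sub_odd ho odd_one
      · exact ho.add_one
  · rw [← QuotientGroup.mk_pow, ← map_pow, hiff] at h
    have h1 : g ^ (j * dOdd p) = 1 := by
      refine Subtype.ext ?_
      rw [pow_mul, Matrix.SpecialLinearGroup.coe_pow, Matrix.SpecialLinearGroup.coe_one]
      rcases h with h | h
      · rw [h, one_pow]
      · rw [h]
        unfold dOdd
        split_ifs with h2
        · rw [pow_one]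
          have h2' : (2 : K) = 0 := by subst h2; exact_mod_cast CharP.cast_eq_zero K 2
          ext a b
          by_cases hab : a = b <;> simp [hab, Matrix.one_apply]
          linear_combination -h2'
        · simp
    have h3 := Nat.le_of_dvd (Nat.mul_pos hj0 (by unfold dOdd; split_ifs <;> omega))
      (hg ▸ orderOf_dvd_of_pow_eq_one h1)
    have h4 := Nat.mul_lt_mul_of_pos_right hj (show 0 < dOdd p by unfold dOdd; split_ifs <;> omega)
    have h5 := Nat.div_mul_le_self N (dOdd p)
    omega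

/-- The product of two copies of `SL₂`. -/
def pairHom : Matrix.SpecialLinearGroup (Fin 2) F × Matrix.SpecialLinearGroup (Fin 2) F →*
    Matrix.symplecticGroup (Fin 2) F where
  toFun s := ⟨fromBlocks (diagonal ![s.1 0 0, s.2 0 0]) (diagonal ![s.1 0 1, s.2 0 1])
      (diagonal ![s.1 1 0, s.2 1 0]) (diagonal ![s.1 1 1, s.2 1 1]), by
    rw [SymplecticGroup.mem_iff]
    have h1 := s.1.2
    have h2 := s.2.2
    rw [Matrix.det_fin_two] at h1 h2
    simp only [Matrix.J, fromBlocks_transpose, diagonal_transpose, fromBlocks_multiply]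
    congr 1 <;> ext i j <;> fin_cases i <;> fin_cases j <;>
      simp <;>
      first
        | ring1
        | linear_combination h1
        | linear_combination -h1
        | linear_combination h2
        | linear_combination -h2⟩
  map_one' := Subtype.ext (by
    show fromBlocks _ _ _ _ = (1 : Matrix I2 I2 F)
    rw [← fromBlocks_one]
    congr 1 <;> ext i j <;> fin_cases i <;> fin_cases j <;> simp)
  map_mul' s t := Subtype.ext (by
    show fromBlocks _ _ _ _ = fromBlocks _ _ _ _ * fromBlocks _ _ _ _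
    rw [fromBlocks_multiply]
    congr 1 <;> ext i j <;> fin_cases i <;> fin_cases j <;>
      simp [Matrix.mul_apply, Fin.sum_univ_two])

/-- The orders `p (q ± 1)`. -/
theorem exists_mixed {n : ℕ} (hn : n = Fintype.card F - 1 ∨ n = Fintype.card F + 1) :
    ∃ x : Cfsg.PSp 2 F, orderOf x = p * n := by
  obtain ⟨t, ht⟩ := exists_sl_order p hn
  let u : Matrix.SpecialLinearGroup (Fin 2) F := ⟨!![1, 1; 0, 1], by simp [Matrix.det_fin_two]⟩
  have hu : ∀ k : ℕ, ((u ^ k : Matrix.SpecialLinearGroup (Fin 2) F) : Matrix (Fin 2) (Fin 2) F) =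
      !![1, (k : F); 0, 1] := by
    intro k
    induction k with
    | zero => ext i j; fin_cases i <;> fin_cases j <;> simp
    | succ k ih =>
      rw [pow_succ, Matrix.SpecialLinearGroup.coe_mul, ih]
      ext i j; fin_cases i <;> fin_cases j <;>
        simp [u, Matrix.mul_apply, Fin.sum_univ_two, add_comm]
  refine ⟨pairHom (u, t), Nat.dvd_antisymm (orderOf_dvd_of_pow_eq_one ?_) ?_⟩
  · rw [← QuotientGroup.mk_pow, ← map_pow, mk_eq_one_iff]
    left
    rw [Prod.pow_mk, show u ^ (p * n) = 1 from Subtype.ext (by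
        rw [hu]; ext i j; fin_cases i <;> fin_cases j <;> simp),
      show t ^ (p * n) = 1 by rw [← ht, mul_comm, pow_mul, pow_orderOf_eq_one, one_pow],
      Prod.mk_one_one, map_one]
    rfl
  set k := orderOf ((pairHom (u, t) : Matrix.symplecticGroup (Fin 2) F) : Cfsg.PSp 2 F)
  have hk := pow_orderOf_eq_one ((pairHom (u, t) : Matrix.symplecticGroup (Fin 2) F) : Cfsg.PSp 2 F)
  rw [← QuotientGroup.mk_pow, ← map_pow, mk_eq_one_iff, Prod.pow_mk] at hk
  obtain ⟨e, he, hAe⟩ : ∃ e : F, (e = 1 ∨ e = -1) ∧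
      ((pairHom (u ^ k, t ^ k) : Matrix.symplecticGroup (Fin 2) F) : Matrix I2 I2 F) =
        diagonal fun _ => e := by
    rcases hk with h | h
    · exact ⟨1, .inl rfl, h.trans diagonal_one.symm⟩
    · exact ⟨-1, .inr rfl, h.trans (by simp [← diagonal_one, diagonal_neg])⟩
  have e1 : e = 1 := by
    have := congrFun (congrFun hAe (.inl 0)) (.inl 0)
    simpa [pairHom, hu] using this.symm
  subst e1
  have e2 : (k : F) = 0 := by
    have := congrFun (congrFun hAe (.inl 0)) (.inr 0)
    simpa [pairHom, hu] using this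
  have e3 : t ^ k = 1 := by
    ext i j
    fin_cases i <;> fin_cases j
    · simpa [pairHom] using congrFun (congrFun hAe (.inl 1)) (.inl 1)
    · simpa [pairHom] using congrFun (congrFun hAe (.inl 1)) (.inr 1)
    · simpa [pairHom] using congrFun (congrFun hAe (.inr 1)) (.inl 1)
    · simpa [pairHom] using congrFun (congrFun hAe (.inr 1)) (.inr 1)
  refine Nat.Coprime.mul_dvd_of_dvd_of_dvd ?_ ((CharP.cast_eq_zero_iff F p k).1 e2)
    (ht ▸ orderOf_dvd_of_pow_eq_one e3)
  obtain ⟨mm, -, hq⟩ := FiniteField.card F p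
  refine hp.out.coprime_iff_not_dvd.2 fun h => ?_
  have hpq : p ∣ Fintype.card F := hq ▸ dvd_pow_self p mm.ne_zero
  have h1 : 1 ≤ Fintype.card F := Fintype.card_pos
  have := hp.out.one_lt
  rcases hn with rfl | rfl
  · have := Nat.le_of_dvd one_pos (by simpa [Nat.sub_sub_self h1] using Nat.dvd_sub hpq h)
    omega
  · have := Nat.le_of_dvd one_pos (by simpa using Nat.dvd_sub h hpq)
    omega

omit [Fintype F] in
theorem exists_unipotent_order (A : Matrix I2 I2 (ZMod p))
    (hA : A * Matrix.J (Fin 2) (ZMod p) * Aᵀ = Matrix.J (Fin 2) (ZMod p))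
    (h1 : A ^ (p ^ 2) = 1 ∨ A ^ (p ^ 2) = -1) (h2 : A ^ p ≠ 1) (h3 : A ^ p ≠ -1) :
    ∃ x : Cfsg.PSp 2 F, orderOf x = p ^ 2 := by
  let f : ZMod p →+* F := ZMod.castHom (dvd_refl p) F
  have hmap : Function.Injective (f.mapMatrix : Matrix I2 I2 (ZMod p) → Matrix I2 I2 F) :=
    Matrix.map_injective f.injective
  refine ⟨((⟨A.map f, CfsgLib.KnownA.PSpFourThreeSpectrum.map_mem f hA⟩ :
    Matrix.symplecticGroup (Fin 2) F) : Cfsg.PSp 2 F), orderOf_eq_prime_pow ?_ ?_⟩
  · rw [pow_one, ← QuotientGroup.mk_pow, mk_eq_one_iff, SubmonoidClass.coe_pow]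
    rintro (h | h)
    · refine h2 (hmap ?_)
      rw [map_pow, map_one]
      exact h
    · refine h3 (hmap ?_)
      rw [map_pow, map_neg, map_one]
      exact h
  · rw [← QuotientGroup.mk_pow, mk_eq_one_iff, SubmonoidClass.coe_pow]
    rcases h1 with h | h
    · left
      have := congrArg f.mapMatrix h
      rwa [map_pow, map_one] at this
    · right
      have := congrArg f.mapMatrix h
      rwa [map_pow, map_neg, map_one] at this

theorem wit_four :
    let A : Matrix I2 I2 (ZMod 2) :=
      Matrix.fromBlocks !![1, 1; 0, 1] !![0, 1; 0, 1] 0 !![1, 0; 1, 1]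
    A * Matrix.J (Fin 2) (ZMod 2) * Aᵀ = Matrix.J (Fin 2) (ZMod 2) ∧ A ^ (2 ^ 2) = 1 ∧
      A ^ 2 ≠ 1 ∧ A ^ 2 ≠ -1 := by decide

theorem wit_nine :
    CfsgLib.KnownA.PSpFourThreeSpectrum.wit9 ^ (3 ^ 2) = -1 ∧
      CfsgLib.KnownA.PSpFourThreeSpectrum.wit9 ^ 3 ≠ 1 ∧
      CfsgLib.KnownA.PSpFourThreeSpectrum.wit9 ^ 3 ≠ -1 := by decide

omit [Fintype F] in
/-- The order `4` in characteristic two, `9` in characteristic three. -/
theorem exists_regular (h : p = 2 ∨ p = 3) : ∃ x : Cfsg.PSp 2 F, orderOf x = p ^ 2 := by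
  rcases h with rfl | rfl
  · exact exists_unipotent_order _ wit_four.1 (Or.inl wit_four.2.1) wit_four.2.2.1 wit_four.2.2.2
  · exact exists_unipotent_order CfsgLib.KnownA.PSpFourThreeSpectrum.wit9
      CfsgLib.KnownA.PSpFourThreeSpectrum.wit_mem.2.1 (Or.inr wit_nine.1) wit_nine.2.1 wit_nine.2.2

end CfsgLib.CharsMore.SpectrumPSp4
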